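import Cfsg.Agent.Lib.ExtM23.Spec
import Cfsg.Agent.Lib.SchurMult.MathieuHom

/-! Extensions of M23 by modules given through words on the 24 points. -/

set_option autoImplicit false

namespace Cfsg.Agent.ExtM23

open Cfsg Cfsg.Agent.PermCert Cfsg.Agent.Golay

/-- Words on the points. -/
abbrev Word : Type := GolayPt → ZMod 2

theorem range_m23 {X : Type*} [Group X] (f : X →* Spor.M23) (hf : Function.Surjective f) :
    ((SchurMult.ptHom Spor.M23).comp f).range = genGroup 5 24 Golay.Cert.m23Gens := by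
  rw [MonoidHom.range_comp, MonoidHom.range_eq_top.2 hf, ← MonoidHom.range_eq_map]
  exact SchurMult.ptHom_range ((Golay.stabCert_spec Golay.m23_ok).1.trans
    (Golay.stabIn_m23.trans Golay.sporM23_eq.symm))

theorem m23_check : checkCert 5 24 Golay.Cert.m23Gens Golay.Cert.m23Derived Golay.Cert.m23Levels = true := by
  have h := Golay.m23_ok
  simp only [Golay.stabCertOK, Bool.and_eq_true] at h
  exact h.1.1.1

theorem ker_ptHom_comp {X : Type*} [Group X] (f : X →* Spor.M23) :
    ((SchurMult.ptHom Spor.M23).comp f).ker = f.ker := by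
  ext x
  simp [MonoidHom.mem_ker, map_eq_one_iff (SchurMult.ptHom Spor.M23) (SchurMult.ptHom_injective _)]

theorem phi_ptHom (σ : Spor.M23) : phi (SchurMult.ptHom Spor.M23 σ) = (σ : Equiv.Perm GolayPt) :=
  phi.apply_symm_apply _

/-- The mask of a combination. -/
def comb (L : List ℕ) (c : ℕ) : ℕ := xorTo (fun r => bif c.testBit r then L.getD r 0 else 0) dim

/-- The pullback of a mask along a coded permutation. -/
def pullMask (e : Elt) (m : ℕ) : ℕ := mkMask (fun i => m.testBit (get 5 e.1 i)) 24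

/-- The matrix gives the pullbacks of the basis modulo the kernel. -/
def matOK (L : List ℕ) (test : ℕ → Bool) (e : Elt) (M : List ℕ) : Bool :=
  allBelow (fun r => test (pullMask e (L.getD r 0) ^^^
    xorTo (fun i => bif (M.getD i 0).testBit r then L.getD i 0 else 0) dim)) dim

/-- The matrices of the data. -/
def matsOK (L : List ℕ) (test : ℕ → Bool) (d : Data) : Bool :=
  allBelow (fun q => matOK L test (d.a.getD q (0, 0)) (d.mats.getD q [])) d.a.length &&
  d.fus.all (fun F => matOK L test (F.1.2, F.1.1) F.2)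

theorem pullMask_lt (e : Elt) (m : ℕ) : pullMask e m < 2 ^ 24 :=
  Nat.lt_pow_two_of_testBit _ fun i hi => by simp [pullMask, testBit_mkMask]; omega

theorem ofMask_inj {a b : ℕ} (ha : a < 2 ^ 24) (hb : b < 2 ^ 24) (h : ofMask a = ofMask b) : a = b := by
  refine Nat.eq_of_testBit_eq fun i => ?_
  rcases lt_or_ge i 24 with hi | hi
  · have := congrFun h (pt ⟨i, hi⟩)
    simp only [ofMask, idx_pt] at this
    cases ha' : a.testBit i <;> cases hb' : b.testBit i <;> simp_all
  · rw [Nat.testBit_lt_two_pow (lt_of_lt_of_le ha (Nat.pow_le_pow_right two_pos hi)),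
      Nat.testBit_lt_two_pow (lt_of_lt_of_le hb (Nat.pow_le_pow_right two_pos hi))]

theorem codeList_lt : ∀ m ∈ codeList, m < 2 ^ 24 := by
  have key : ∀ l : List ℕ, (∀ b ∈ l, b < 2 ^ 24) → ∀ m ∈ spanList l, m < 2 ^ 24 := by
    intro l
    induction l with
    | nil => intro _ m hm; simp [spanList] at hm; subst hm; norm_num
    | cons c l ih =>
      intro h m hm
      have ih := ih fun b hb => h b (List.mem_cons_of_mem _ hb)
      simp only [spanList, List.mem_append, List.mem_map] at hm
      rcases hm with hm | ⟨x, hx, rfl⟩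
      · exact ih m hm
      · exact Nat.xor_lt_two_pow (h c List.mem_cons_self) (ih x hx)
  exact key _ (by decide +kernel)

theorem inCode_of_mem {m : ℕ} (hm : m < 2 ^ 24) (h : ofMask m ∈ golayCode) : inCode m = true := by
  obtain ⟨m', hm', e⟩ := mem_golayCode.1 h
  rw [← ofMask_inj (codeList_lt m' hm') hm e]
  exact inCode_iff.2 hm'

/-- The word of a vector. -/
def wordOf (L : List ℕ) (v : V) : Word := ∑ r : Fin dim, v r • ofMask (L.getD r 0)

theorem wordOf_add (L : List ℕ) (u v : V) : wordOf L (u + v) = wordOf L u + wordOf L v := by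
  simp only [wordOf, Pi.add_apply, add_smul, Finset.sum_add_distrib]

theorem ofMask_xorTo (f : ℕ → ℕ) : ∀ n, ofMask (xorTo f n) = ∑ r ∈ Finset.range n, ofMask (f r)
  | 0 => by simp [xorTo, ofMask_zero]
  | n + 1 => by rw [xorTo, ofMask_xor, ofMask_xorTo f n, Finset.sum_range_succ]

theorem ofMask_sel (L : List ℕ) (b : Fin dim → Bool) (f : ℕ → ℕ)
    (hf : ∀ r : Fin dim, f r = bif b r then L.getD r 0 else 0) :
    ofMask (xorTo f dim) = ∑ r : Fin dim, if b r then ofMask (L.getD r 0) else 0 := by
  rw [ofMask_xorTo, Finset.sum_range]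
  refine Finset.sum_congr rfl fun r _ => ?_
  rw [hf]
  cases b r <;> simp [ofMask_zero]

theorem ofMask_comb (L : List ℕ) (c : ℕ) :
    ofMask (comb L c) = wordOf L (fun r => if c.testBit r then 1 else 0) := by
  rw [comb, ofMask_sel L (fun r : Fin dim => c.testBit r) _ fun r => rfl, wordOf]
  exact Finset.sum_congr rfl fun r _ => by split <;> simp

theorem exists_code (v : V) : ∃ c < 2 ^ dim, v = fun r : Fin dim => if c.testBit r then 1 else 0 := by
  have key : ∀ b : ℕ → Bool, ∀ n k : ℕ,
      (xorTo (fun r => bif b r then 1 <<< r else 0) n).testBit k = (decide (k < n) && b k) := by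
    intro b n k
    induction n with
    | zero => simp [xorTo]
    | succ n ih =>
      rw [xorTo, Nat.testBit_xor, ih]
      rcases lt_trichotomy k n with h | rfl | h
      · cases b n <;> simp [h, h.trans (Nat.lt_succ_self n), Nat.testBit_two_pow_of_ne h.ne',
          Nat.one_shiftLeft]
      · cases b k <;> simp [Nat.one_shiftLeft, Nat.testBit_two_pow_self]
      · cases b n <;> simp [show ¬ k < n by omega, show ¬ k < n + 1 by omega,
          Nat.testBit_two_pow_of_ne h.ne, Nat.one_shiftLeft]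
  let b : ℕ → Bool := fun r => if h : r < dim then decide (v ⟨r, h⟩ = 1) else false
  refine ⟨xorTo (fun r => bif b r then 1 <<< r else 0) dim,
    Nat.lt_pow_two_of_testBit _ fun k hk => by rw [key]; simp [show ¬ k < dim by omega], funext fun r => ?_⟩
  rw [key]
  simp only [b, dif_pos r.2, decide_eq_true r.2, Bool.true_and, decide_eq_true_eq, Fin.eta]
  rcases (by decide : ∀ a : ZMod 2, a = 0 ∨ a = 1) (v r) with h | h <;> simp [h]

theorem eq_zero_of_code {L : List ℕ} {test : ℕ → Bool}
    (hinj : ∀ c < 2 ^ dim, test (comb L c) = true → c = 0) {v : V}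
    (h : ∀ c, ofMask (comb L c) = wordOf L v → test (comb L c) = true) : v = 0 := by
  obtain ⟨c, hc, rfl⟩ := exists_code v
  obtain rfl := hinj c hc (h c (ofMask_comb L c))
  exact funext fun r => by simp

theorem ofMask_pullMask {e : Elt} (h : validElt 5 24 e = true) (m : ℕ) :
    ofMask (pullMask e m) = ofMask m ∘ ⇑(phi (toPerm 5 24 e)) := by
  funext p
  simp only [Function.comp_apply, ofMask, pullMask, testBit_mkMask, idx_lt, decide_true, Bool.true_and]
  rw [show idx (phi (toPerm 5 24 e) p) = get 5 e.1 (idx p) from idx_permOf h p]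

/-- A kernel in word coordinates. -/
structure Ext {E : Type*} [Group E] (π : E →* Equiv.Perm (Fin 24)) (R : Word → E → Prop) : Prop where
  zero : R 0 1
  add : ∀ {a b x y}, R a x → R b y → R (a + b) (x * y)
  uniq : ∀ {a x y}, R a x → R a y → x = y
  ker : ∀ {a x}, R a x → π x = 1
  cover : ∀ x, π x = 1 → ∃ a, R a x
  conj : ∀ g {a x}, R a x → R (a ∘ ⇑(phi (π g))⁻¹) (g * x * g⁻¹)

variable {E : Type*} [Group E] {π : E →* Equiv.Perm (Fin 24)} {R : Word → E → Prop}

theorem Ext.eq_of (S : Ext π R) {a b : Word} {x y : E} (hx : R a x) (hy : R b y) (h : R (a + b) 1) :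
    x = y := by
  have h2 : R (0 : Word) (y * y) := by
    have h0 := S.add hy hy
    rwa [show b + b = 0 from funext fun p => (by decide : ∀ t : ZMod 2, t + t = 0) (b p)] at h0
  have e1 : y * y = 1 := S.uniq h2 S.zero
  have e2 : x * y = 1 := S.uniq (S.add hx hy) h
  exact mul_right_cancel (e2.trans e1.symm)

theorem Ext.sum (S : Ext π R) (f : Fin dim → Word) (h : ∀ r, R (f r) 1) : R (∑ r, f r) 1 :=
  Finset.sum_induction f (fun w => R w 1) (fun a b ha hb => by simpa using S.add ha hb) S.zero
    fun r _ => h r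

theorem matOK_spec (S : Ext π R) {L : List ℕ} {test : ℕ → Bool}
    (hsound : ∀ m, test m = true → R (ofMask m) 1) {e : Elt} {M : List ℕ} (hv : validElt 5 24 e = true)
    (h : matOK L test e M = true) (v : V) :
    R (wordOf L v ∘ ⇑(phi (toPerm 5 24 e)) + wordOf L (mulM M v)) 1 := by
  have h1 : ∀ r : Fin dim, R (v r • (ofMask (L.getD r 0) ∘ ⇑(phi (toPerm 5 24 e)) +
      ∑ i : Fin dim, if (M.getD i 0).testBit r then ofMask (L.getD i 0) else 0)) 1 := fun r => by
    rcases (by decide : ∀ a : ZMod 2, a = 0 ∨ a = 1) (v r) with h0 | h0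
    · rw [h0, zero_smul]; exact S.zero
    · have := hsound _ (allBelow_spec _ _ h r r.2)
      rw [ofMask_xor, ofMask_pullMask hv, ofMask_sel L (fun i : Fin dim => (M.getD i 0).testBit r) _
        fun i => rfl] at this
      rwa [h0, one_smul]
  have h2 := S.sum _ h1
  simp only [smul_add, Finset.sum_add_distrib] at h2
  have h3 : ∑ r : Fin dim, v r • (ofMask (L.getD r 0) ∘ ⇑(phi (toPerm 5 24 e))) =
      wordOf L v ∘ ⇑(phi (toPerm 5 24 e)) := funext fun p => by simp [wordOf, Finset.sum_apply]
  have h4 : ∑ r : Fin dim, v r • (∑ i : Fin dim, if (M.getD i 0).testBit r then ofMask (L.getD i 0) else 0) =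
      wordOf L (mulM M v) := by
    simp only [wordOf, mulM, Finset.sum_smul, Finset.smul_sum]
    rw [Finset.sum_comm]
    refine Finset.sum_congr rfl fun r _ => Finset.sum_congr rfl fun i _ => ?_
    split <;> simp
  rwa [h3, h4] at h2

theorem toPerm_swap {e : Elt} (h : validElt 5 24 e = true) :
    validElt 5 24 (e.2, e.1) = true ∧ toPerm 5 24 (e.2, e.1) = (toPerm 5 24 e)⁻¹ := by
  have hv : validElt 5 24 (e.2, e.1) = true := by
    have key : ∀ m, m ≤ 24 → allBelow (fun i => Nat.blt (get 5 e.2 i) 24 && Nat.blt (get 5 e.1 i) 24 &&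
        Nat.beq (get 5 e.2 (get 5 e.1 i)) i && Nat.beq (get 5 e.1 (get 5 e.2 i)) i) m = true := by
      intro m
      induction m with
      | zero => intro _; rfl
      | succ m ih =>
        intro hm
        have h1 := allBelow_spec _ _ h m (by omega)
        simp only [Bool.and_eq_true] at h1
        show (allBelow _ m && (Nat.blt (get 5 e.2 m) 24 && Nat.blt (get 5 e.1 m) 24 &&
          Nat.beq (get 5 e.2 (get 5 e.1 m)) m && Nat.beq (get 5 e.1 (get 5 e.2 m)) m)) = true
        rw [ih (by omega), h1.1.1.2, h1.1.1.1, h1.2, h1.1.2]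
        rfl
    exact key 24 le_rfl
  refine ⟨hv, Equiv.ext fun i => Fin.ext ?_⟩
  rw [← ((rep_toPerm hv) i).1, ← ((rep_toPerm h) i).2]

/-- The setup of an extension in word coordinates. -/
theorem setup_of (S : Ext π R) {gens : List Elt} (hrange : π.range = genGroup 5 24 gens) {L : List ℕ}
    {test : ℕ → Bool} {d : Data} (hsound : ∀ m, test m = true → R (ofMask m) 1)
    (hcomplete : ∀ c, R (ofMask (comb L c)) 1 → test (comb L c) = true)
    (hinj : ∀ c < 2 ^ dim, test (comb L c) = true → c = 0)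
    (hbasis : ∀ r : Fin dim, ∃ x, R (ofMask (L.getD r 0)) x)
    (hspan : ∀ w x, R w x → ∃ v, R (wordOf L v) x)
    (hmats : matsOK L test d = true)
    (hvalA : ∀ e ∈ d.a, validElt 5 24 e = true) (hvalF : ∀ F ∈ d.fus, validElt 5 24 F.1 = true) :
    ∃ ι : V → E, Setup d gens π ι ∧ ∀ v, R (wordOf L v) (ι v) := by
  classical
  have hex : ∀ v, ∃ x, R (wordOf L v) x := fun v =>
    Finset.sum_induction _ (fun w => ∃ x, R w x) (fun a b ⟨x, hx⟩ ⟨y, hy⟩ => ⟨_, S.add hx hy⟩)
      ⟨1, S.zero⟩ fun r _ => by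
        rcases (by decide : ∀ a : ZMod 2, a = 0 ∨ a = 1) (v r) with h | h
        · exact ⟨1, by rw [h, zero_smul]; exact S.zero⟩
        · rw [h, one_smul]; exact hbasis r
  choose ι hι using hex
  simp only [matsOK, Bool.and_eq_true, List.all_eq_true] at hmats
  refine ⟨ι, ⟨hrange, fun u v => S.uniq (hι _) (by rw [wordOf_add]; exact S.add (hι u) (hι v)), ?_, ?_, ?_, ?_⟩,
    hι⟩
  · intro u v huv
    have h1 := S.add (hι u) (hι v)
    rw [← wordOf_add] at h1
    have h2 : R (wordOf L (u + v)) 1 := by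
      rwa [huv, S.uniq (S.add (hι v) (hι v))
        (show R (wordOf L v + wordOf L v) 1 by
          rw [← wordOf_add, add_self, show wordOf L (0 : V) = 0 by simp [wordOf]]; exact S.zero)] at h1
    refine two_eq _ _ (eq_zero_of_code hinj fun c hc => hcomplete c ?_)
    rwa [hc]
  · intro x
    refine ⟨fun hx => ?_, fun ⟨v, hv⟩ => hv ▸ S.ker (hι v)⟩
    obtain ⟨w, hw⟩ := S.cover x hx
    obtain ⟨v, hv⟩ := hspan w x hw
    exact ⟨v, S.uniq (hι v) hv⟩
  · intro q hq x hx v
    have he : validElt 5 24 (d.a.getD q (0, 0)) = true := by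
      rw [List.getD_eq_getElem _ _ hq]; exact hvalA _ (List.getElem_mem hq)
    have h1 := S.conj x⁻¹ (hι v)
    rw [map_inv, map_inv, inv_inv, inv_inv, hx] at h1
    have := S.eq_of h1 (hι _) (matOK_spec S hsound he (allBelow_spec _ _ hmats.1 q hq) v)
    rw [← this]; group
  · intro t ht x hx v
    have hF : validElt 5 24 (d.fus.getD t ((0, 0), [])).1 = true := by
      rw [List.getD_eq_getElem _ _ ht]; exact hvalF _ (List.getElem_mem ht)
    obtain ⟨hs, hse⟩ := toPerm_swap hF
    have h0 := hmats.2 _ (List.getElem_mem ht)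
    rw [← List.getD_eq_getElem _ ((0, 0), []) ht] at h0
    have h1 := S.conj x (hι v)
    rw [hx, ← map_inv, ← hse] at h1
    exact S.eq_of h1 (hι _) (matOK_spec S hsound hs h0 v)

end Cfsg.Agent.ExtM23
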