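import Cfsg.Agent.Lib.ExtM23.CocodeData
import Cfsg.Agent.Lib.Golay.MathieuData

/-! Kernel checks for the cocode module. -/

set_option autoImplicit false
set_option maxRecDepth 20000

namespace Cfsg.Agent.ExtM23

open Cfsg.Agent.PermCert

theorem cocode_base : baseOK cocodeData Golay.Cert.m23Levels = true := by decide +kernel

theorem cocode_eqs : eqsOK cocodeData = true := by decide +kernel

theorem cocode_combos : combosOK cocodeData = true := by decide +kernel

theorem cocode_subs : subsOK cocodeData = true := by decide +kernel

theorem cocode_odd : Odd (certOrder Golay.Cert.m23Levels / certOrder cocodeData.levels) := by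
  rw [Nat.odd_iff]; decide +kernel

theorem cocode_lam : cocodeData.lam < 2 ^ wid := by decide +kernel

end Cfsg.Agent.ExtM23
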