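import Cfsg.Agent.Lib.ExtM23.Adapter
import Cfsg.Agent.Lib.ExtM23.CocodeCert

/-! Extensions of M23 by its cocode module: at most one non-split class. -/

set_option autoImplicit false
set_option maxRecDepth 20000

namespace Cfsg.Agent.ExtM23

open Cfsg Cfsg.Agent.PermCert Cfsg.Agent.Golay

/-- The test for the cocode module. -/
def cocodeTest (m : ℕ) : Bool := inCode m || inCode (m ^^^ 8388608)

/-- The coordinates of the unit vectors. -/
def unitCoord : List ℕ :=
  [1, 2, 4, 8, 16, 32, 64, 128, 256, 512, 1024, 1141, 1183, 1355, 1763, 435, 870, 1740, 493, 986, 1972, 797,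
    1594, 0]

theorem cocode_inj : allBelow (fun c => Nat.beq c 0 || !cocodeTest (comb cocodeBasis c)) (2 ^ dim) = true := by
  decide +kernel

theorem cocode_basis_lt : allBelow (fun r => Nat.blt (cocodeBasis.getD r 0) (2 ^ 24)) dim = true := by
  decide +kernel

theorem cocode_units :
    allBelow (fun i => cocodeTest (comb cocodeBasis (unitCoord.getD i 0) ^^^ (1 <<< i))) 24 = true := by
  decide +kernel

theorem cocode_mats : matsOK cocodeBasis cocodeTest cocodeData = true := by decide +kernel

theorem single_none : (Pi.single none 1 : Word) = ofMask 8388608 := by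
  funext p
  revert p
  decide +kernel

/-- The kernel relation of the cocode module. -/
def cocodeRel {E : Type*} [Group E] (N : Subgroup E) (θ : Word →+ Additive ↥N) : Word → E → Prop :=
  fun w x => ((θ w).toMul : E) = x

section

variable {E : Type*} [Group E] (f : E →* Spor.M23) (N : Subgroup E) (θ : Word →+ Additive ↥N)
  (hker : f.ker = N) (hsurj : Function.Surjective θ)
  (hθ : ∀ (g : E) (w : Word), ((θ (w ∘ ⇑((f g : Equiv.Perm GolayPt)⁻¹))).toMul : E)
    = g * ((θ w).toMul : E) * g⁻¹)

include hker hsurj hθ in
theorem cocode_ext : Ext ((SchurMult.ptHom Spor.M23).comp f) (cocodeRel N θ) := by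
  have hkerπ : ((SchurMult.ptHom Spor.M23).comp f).ker = N := (ker_ptHom_comp f).trans hker
  exact
    { zero := by simp [cocodeRel]
      add := fun {a b x y} ha hb => by
        simp only [cocodeRel] at ha hb ⊢
        rw [map_add, toMul_add, Subgroup.coe_mul, ha, hb]
      uniq := fun {a x y} ha hb => ha.symm.trans hb
      ker := fun {a x} ha => MonoidHom.mem_ker.1 (hkerπ ▸ ha ▸ (θ a).toMul.2)
      cover := fun x hx => by
        obtain ⟨w, hw⟩ := hsurj (Additive.ofMul ⟨x, (hkerπ ▸ hx : x ∈ N)⟩)
        exact ⟨w, by simp [cocodeRel, hw]⟩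
      conj := fun g {a x} ha => by
        rw [show phi (((SchurMult.ptHom Spor.M23).comp f) g) = (f g : Equiv.Perm GolayPt) from phi_ptHom _]
        simp only [cocodeRel] at ha ⊢
        rw [hθ g a, ha] }

variable (hθker : ∀ w : Word, θ w = 0 ↔ (w ∈ golayCode ∨ w + Pi.single none 1 ∈ golayCode))

include hθker in
theorem cocode_rel_one (w : Word) :
    cocodeRel N θ w 1 ↔ (w ∈ golayCode ∨ w + Pi.single none 1 ∈ golayCode) := by
  rw [← hθker]
  constructor
  · intro h
    exact Additive.toMul.injective (Subtype.ext h)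
  · intro h
    simp [cocodeRel, h]

include hker hsurj hθ hθker in
/-- The setup of an extension by the cocode module. -/
theorem cocode_setup (hf : Function.Surjective f) :
    ∃ ι : V → E, Setup cocodeData Golay.Cert.m23Gens ((SchurMult.ptHom Spor.M23).comp f) ι ∧
      ∀ v, cocodeRel N θ (wordOf cocodeBasis v) (ι v) := by
  have S := cocode_ext f N θ hker hsurj hθ
  have h1 := cocode_rel_one N θ hθker
  have hblt : ∀ r : Fin dim, cocodeBasis.getD r 0 < 2 ^ 24 := fun r => by
    have := allBelow_spec _ _ cocode_basis_lt r r.2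
    rwa [Nat.blt_eq] at this
  have hcomb : ∀ c, comb cocodeBasis c < 2 ^ 24 := fun c => xorTo_lt (fun r => by
    cases c.testBit r
    · norm_num
    · rcases lt_or_ge r dim with hr | hr
      · exact hblt ⟨r, hr⟩
      · simp only [cond_true]
        rw [List.getD_eq_default _ _ (le_trans (show cocodeBasis.length ≤ dim by decide) hr)]
        norm_num) _
  have hsound : ∀ m, cocodeTest m = true → cocodeRel N θ (ofMask m) 1 := fun m hm => by
    rw [cocodeTest, Bool.or_eq_true] at hm
    refine (h1 _).2 (hm.imp ofMask_mem_golayCode fun h => ?_)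
    have := ofMask_mem_golayCode h
    rwa [ofMask_xor, ← single_none] at this
  obtain ⟨-, hval, -, -, -⟩ := base_facts cocode_base
  have hvalF : ∀ F ∈ cocodeData.fus, validElt 5 24 F.1 = true := by
    intro F hF
    have h := cocode_base
    simp only [baseOK, Bool.and_eq_true, List.all_eq_true] at h
    exact (h.1.1.2 F hF).1
  refine setup_of S (range_m23 f hf) (L := cocodeBasis) (test := cocodeTest) hsound
    (fun c hc => ?_)
    (fun c hc h => ?_) (fun r => ⟨_, rfl⟩) (fun w x hw => ?_) cocode_mats hval hvalF
  · rw [cocodeTest, Bool.or_eq_true]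
    refine ((h1 _).1 hc).imp (inCode_of_mem (hcomb c)) fun h => ?_
    rw [single_none, ← ofMask_xor] at h
    exact inCode_of_mem (Nat.xor_lt_two_pow (hcomb c) (by norm_num)) h
  · have := allBelow_spec _ _ cocode_inj c hc
    rw [h, Bool.not_true, Bool.or_false, Nat.beq_eq] at this
    exact this
  · have key : ∃ v, cocodeRel N θ (wordOf cocodeBasis v + w) 1 := by
      rw [← Finset.univ_sum_single w]
      refine Finset.sum_induction (fun p => (Pi.single p (w p) : Word))
        (fun u => ∃ v, cocodeRel N θ (wordOf cocodeBasis v + u) 1) (fun a b ha hb => ?_) ⟨0, ?_⟩ fun p _ => ?_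
      · obtain ⟨u, hu⟩ := ha
        obtain ⟨v, hv⟩ := hb
        refine ⟨u + v, ?_⟩
        have := S.add hu hv
        rw [mul_one, add_add_add_comm, ← wordOf_add] at this
        exact this
      · rw [show wordOf cocodeBasis (0 : V) = 0 by simp [wordOf], add_zero]; exact S.zero
      · rcases (by decide : ∀ a : ZMod 2, a = 0 ∨ a = 1) (w p) with h | h
        · refine ⟨0, ?_⟩
          rw [h, Pi.single_zero, show wordOf cocodeBasis (0 : V) = 0 by simp [wordOf], add_zero]; exact S.zero
        · refine ⟨fun r => if (unitCoord.getD (idx p) 0).testBit r then 1 else 0, ?_⟩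
          have := hsound _ (allBelow_spec _ _ cocode_units (idx p) (idx_lt p))
          rw [ofMask_xor, ofMask_comb] at this
          rw [h]
          convert this using 2
          congr 1
          funext q
          simp only [Nat.one_shiftLeft, Pi.single_apply, ofMask, Nat.testBit_two_pow, decide_eq_true_eq]
          exact if_congr ⟨fun e => e ▸ rfl, fun e => idx_injective e.symm⟩ rfl rfl
    obtain ⟨v, hv⟩ := key
    exact ⟨v, (S.eq_of hw (rfl : cocodeRel N θ (wordOf cocodeBasis v) _) (by rwa [add_comm])).symm ▸ rfl⟩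

include hker hsurj hθ hθker in
/-- A non-split extension has corrected lifts with the exceptional class as defects. -/
theorem cocode_lifts [Finite E] (hf : Function.Surjective f)
    (hns : ∀ H : Subgroup E, H ⊓ N = ⊥ → H ⊔ N ≠ ⊤) :
    ∃ (ι : V → E) (lift : ℕ → E), Setup cocodeData Golay.Cert.m23Gens ((SchurMult.ptHom Spor.M23).comp f) ι ∧
      (∀ v, cocodeRel N θ (wordOf cocodeBasis v) (ι v)) ∧
      LiftOK cocodeData ((SchurMult.ptHom Spor.M23).comp f) lift ∧
      RuleOK cocodeData ι lift (zV cocodeData) := by
  obtain ⟨ι, hS, hι⟩ := cocode_setup f N θ hker hsurj hθ hθker hf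
  obtain ⟨c, lift, hl, hr⟩ := exists_lifts hS m23_check cocode_base cocode_eqs cocode_combos cocode_lam
  rcases (by decide : ∀ a : ZMod 2, a = 0 ∨ a = 1) c with rfl | rfl
  · exfalso
    have hr0 : RuleOK cocodeData ι lift fun _ => 0 := fun q hq => by simpa using hr q hq
    obtain ⟨H, hH⟩ := exists_complement hS m23_check cocode_base cocode_subs cocode_odd hl hr0
    rw [(ker_ptHom_comp f).trans hker] at hH
    exact hns H (by rw [inf_comm]; exact hH.disjoint.eq_bot) (by rw [sup_comm]; exact hH.sup_eq_top)
  · exact ⟨ι, lift, hS, hι, hl, fun q hq => by simpa using hr q hq⟩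

end

end Cfsg.Agent.ExtM23
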