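import Cfsg.Agent.Lib.ExtM23.Adapter
import Cfsg.Agent.Lib.ExtM23.CodeCert

/-! Extensions of M23 by its code module split. -/

set_option autoImplicit false
set_option maxRecDepth 20000

namespace Cfsg.Agent.ExtM23

open Cfsg Cfsg.Agent.PermCert Cfsg.Agent.Golay

/-- The test for the code module. -/
def codeTest (m : ℕ) : Bool := Nat.beq m 0

/-- The coordinates of a word of the code. -/
def codeCoord (m : ℕ) : ℕ :=
  xorTo (fun r => bif m.testBit (22 - r) then 1 <<< r else 0) dim

theorem code_basis_ok : allBelow (fun r => Nat.blt (codeBasis.getD r 0) (2 ^ 24) && inCode (codeBasis.getD r 0) &&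
    !(codeBasis.getD r 0).testBit 23) dim = true := by decide +kernel

theorem code_span : codeList.all (fun m => m.testBit 23 || Nat.beq (comb codeBasis (codeCoord m)) m) = true := by
  decide +kernel

theorem code_inj : allBelow (fun c => Nat.beq c 0 || !codeTest (comb codeBasis c)) (2 ^ dim) = true := by
  decide +kernel

theorem code_mats : matsOK codeBasis codeTest codeData = true := by decide +kernel

theorem code_z : codeData.z.all (fun z => Nat.beq z 0) = true := by decide +kernel

theorem zV_code (q : ℕ) : zV codeData q = 0 := by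
  have h : codeData.z.getD q 0 = 0 := by
    rcases lt_or_ge q codeData.z.length with hq | hq
    · rw [List.getD_eq_getElem _ _ hq]
      have := code_z
      simp only [List.all_eq_true, Nat.beq_eq] at this
      exact this _ (List.getElem_mem hq)
    · exact List.getD_eq_default _ _ hq
  exact funext fun r => by simp only [zV, h, Nat.zero_testBit, Bool.false_eq_true, if_false, Pi.zero_apply]

theorem mem_code_none {m : ℕ} (h : m.testBit 23 = false) : ofMask m none = 0 := by
  simp [ofMask, idx, h]

/-- Every extension of M23 by the words of the code vanishing at the extra point splits. -/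
theorem split {E : Type*} [Group E] [Finite E] (f : E →* Spor.M23) (hf : Function.Surjective f)
    (N : Subgroup E) [hN : N.Normal] (hker : f.ker = N)
    (ψ : Additive ↥N →+ Word) (hinj : Function.Injective ψ)
    (hrange : ∀ w : Word, w ∈ Set.range ψ ↔ (w ∈ golayCode ∧ w none = 0))
    (hψ : ∀ (g : E) (n : ↥N), ψ (Additive.ofMul ⟨g * n * g⁻¹, hN.conj_mem n n.2 g⟩)
        = ψ (Additive.ofMul n) ∘ ⇑((f g : Equiv.Perm GolayPt)⁻¹)) :
    ∃ H : Subgroup E, N.IsComplement' H := by
  set π : E →* Equiv.Perm (Fin 24) := (SchurMult.ptHom Spor.M23).comp f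
  let R : Word → E → Prop := fun w x => ∃ h : x ∈ N, ψ (Additive.ofMul ⟨x, h⟩) = w
  have hkerπ : π.ker = N := (ker_ptHom_comp f).trans hker
  have S : Ext π R :=
    { zero := ⟨N.one_mem, map_zero ψ⟩
      add := fun {a b x y} ⟨hx, ha⟩ ⟨hy, hb⟩ => ⟨N.mul_mem hx hy, by
        rw [show Additive.ofMul (⟨x * y, N.mul_mem hx hy⟩ : ↥N) =
          Additive.ofMul (⟨x, hx⟩ : ↥N) + Additive.ofMul (⟨y, hy⟩ : ↥N) from rfl, map_add, ha, hb]⟩
      uniq := fun {a x y} ⟨hx, ha⟩ ⟨hy, hb⟩ =>
        congrArg Subtype.val (Additive.ofMul.injective (hinj (ha.trans hb.symm)))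
      ker := fun {a x} ⟨hx, _⟩ => MonoidHom.mem_ker.1 (hkerπ ▸ hx)
      cover := fun x hx => ⟨_, (hkerπ ▸ hx : x ∈ N), rfl⟩
      conj := fun g {a x} ⟨hx, ha⟩ => ⟨hN.conj_mem x hx g, by
        rw [show phi (π g) = (f g : Equiv.Perm GolayPt) from phi_ptHom _, hψ g ⟨x, hx⟩, ha]⟩ }
  have h1 : ∀ w, R w 1 → w = 0 := fun w ⟨h, e⟩ => e.symm.trans (map_zero ψ)
  have hbasis := code_basis_ok
  have hb : ∀ r : Fin dim, codeBasis.getD r 0 < 2 ^ 24 ∧ inCode (codeBasis.getD r 0) = true ∧
      (codeBasis.getD r 0).testBit 23 = false := fun r => by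
    have := allBelow_spec _ _ hbasis r r.2
    simp only [Bool.and_eq_true, Nat.blt_eq, Bool.not_eq_true'] at this
    exact ⟨this.1.1, this.1.2, this.2⟩
  have hcomb : ∀ c, comb codeBasis c < 2 ^ 24 := fun c => xorTo_lt (fun r => by
    cases c.testBit r
    · norm_num
    · rcases lt_or_ge r dim with hr | hr
      · exact (hb ⟨r, hr⟩).1
      · simp only [cond_true]
        rw [List.getD_eq_default _ _ (le_trans (show codeBasis.length ≤ dim by decide) hr)]
        norm_num) _
  obtain ⟨hcd, hval, -, -, -⟩ := base_facts code_base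
  have hvalF : ∀ F ∈ codeData.fus, validElt 5 24 F.1 = true := by
    intro F hF
    have h := code_base
    simp only [baseOK, Bool.and_eq_true, List.all_eq_true] at h
    exact (h.1.1.2 F hF).1
  obtain ⟨ι, hS, -⟩ := setup_of S (range_m23 f hf) (L := codeBasis) (test := codeTest) (d := codeData)
    (fun m hm => by
      rw [codeTest, Nat.beq_eq] at hm
      rw [hm, ofMask_zero]; exact S.zero)
    (fun c hc => by
      rw [codeTest, Nat.beq_eq]
      exact ofMask_inj (hcomb c) (by norm_num) ((h1 _ hc).trans ofMask_zero.symm))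
    (fun c hc h => by
      have := allBelow_spec _ _ code_inj c hc
      rw [h, Bool.not_true, Bool.or_false, Nat.beq_eq] at this
      exact this)
    (fun r => by
      obtain ⟨⟨x, hx⟩, e⟩ : ∃ n : ↥N, ψ (Additive.ofMul n) = ofMask (codeBasis.getD r 0) := by
        obtain ⟨n, hn⟩ := (hrange _).2 ⟨ofMask_mem_golayCode (hb r).2.1, mem_code_none (hb r).2.2⟩
        exact ⟨n.toMul, hn⟩
      exact ⟨x, hx, e⟩)
    (fun w x hw => by
      obtain ⟨hx, e⟩ := hw
      obtain ⟨hc, hn⟩ := (hrange w).1 ⟨_, e⟩
      obtain ⟨m, hm, rfl⟩ := mem_golayCode.1 hc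
      have h23 : m.testBit 23 = false := by
        cases h : m.testBit 23
        · rfl
        · simp [ofMask, idx, h] at hn
      have h := code_span
      simp only [List.all_eq_true, Bool.or_eq_true, Nat.beq_eq] at h
      rcases h m hm with h | h
      · rw [h23] at h; exact absurd h Bool.false_ne_true
      · exact ⟨_, by rw [← ofMask_comb, h]; exact ⟨hx, e⟩⟩)
    code_mats hval hvalF
  obtain ⟨c, lift, hl, hr⟩ := exists_lifts hS m23_check code_base code_eqs code_combos code_lam
  have hr0 : RuleOK codeData ι lift fun _ => 0 := fun q hq => by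
    have := hr q hq
    simpa [zV_code] using this
  obtain ⟨H, hH⟩ := exists_complement hS m23_check code_base code_subs code_odd hl hr0
  exact ⟨H, hkerπ ▸ hH⟩

end Cfsg.Agent.ExtM23
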