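import Cfsg.Agent.Lib.Compute.SchurDefs

/-!
Checks for extensions of a coded permutation group by a module of dimension eleven over the field with two
elements: words in a polycyclic sequence of a Sylow subgroup are collected with formal vectors, each coordinate
of which is a linear form in the unknown tails, stored as a bit mask.
-/

set_option autoImplicit false

namespace Cfsg.Agent.ExtM23

open Cfsg.Agent.PermCert Cfsg.Agent.PermSchur

/-- The width of a form. -/
abbrev wid : ℕ := 500

/-- The dimension. -/
abbrev dim : ℕ := 11

/-- An exclusive or over an initial segment. -/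
def xorTo (f : ℕ → ℕ) : ℕ → ℕ
  | 0 => 0
  | n + 1 => xorTo f n ^^^ f n

/-- A matrix (rows as bit masks) applied to a vector of forms. -/
def act (M : List ℕ) (a : ℕ) : ℕ :=
  xorTo (fun i => (xorTo (fun r => bif (M.getD i 0).testBit r then get wid a r else 0) dim) <<< (wid * i)) dim

/-- The vector of unknowns with a given index. -/
def varV (q : ℕ) : ℕ := xorTo (fun r => (1 <<< (q * dim + r)) <<< (wid * r)) dim

/-- A pair of indices: two associations of three letters, or two products of sources of a conjugation. -/
inductive Rel where
  | assoc (x y z : ℕ)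
  | fuse (t : ℕ) (f g : List ℕ)

/-- The certificate. -/
structure Data where
  a : List Elt
  derived : List (Elt × List ℕ)
  levels : List CLevel
  mats : List (List ℕ)
  rules : List (List ℕ × List ℕ)
  fus : List (Elt × List ℕ)
  pairs : List (ℕ × List ℕ × List ℕ)
  rels : List Rel
  eqs : List ℕ
  delta : List ℕ
  z : List ℕ
  lam : ℕ
  combos : List (List ℕ)
  subs : List (List ℕ)

variable (d : Data)

/-- The rule for two letters. -/
def findRule : List (List ℕ × List ℕ) → List ℕ → Option ℕ
  | [], _ => none
  | r :: rs, u => if r.1 == u then some 0 else (findRule rs u).map (· + 1)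

/-- One rewriting step: the new word, the rule used and the letters to its right. -/
def stepW : List ℕ → Option (List ℕ × ℕ × List ℕ)
  | [] => none
  | [_] => none
  | x :: y :: rest => match findRule d.rules [x, y] with
    | some q => some ((d.rules.getD q ([], [])).2 ++ rest, q, rest)
    | none => match stepW (y :: rest) with
      | some (v, q, r) => some (x :: v, q, r)
      | none => none

/-- A word applied to a vector from the right. -/
def actW (r : List ℕ) (a : ℕ) : ℕ := r.foldl (fun acc q => act (d.mats.getD q []) acc) a

/-- Collection. -/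
def collW : ℕ → List ℕ → ℕ → List ℕ × ℕ
  | 0, u, a => (u, a)
  | fuel + 1, u, a => match stepW d u with
    | none => (u, a)
    | some (v, q, r) => collW fuel v (a ^^^ actW d r (varV q))

/-- Collection with enough steps. -/
def norm (u : List ℕ) (a : ℕ) : List ℕ × ℕ := collW d 10000 u a

/-- The sources of a product. -/
def srcs (f : List ℕ) : List ℕ := f.flatMap fun p => (d.pairs.getD p (0, [], [])).2.1

/-- The images of a product. -/
def imgs (f : List ℕ) : List ℕ := f.flatMap fun p => (d.pairs.getD p (0, [], [])).2.2

/-- The tails of a product of images. -/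
def tails : List ℕ → ℕ
  | [] => 0
  | p :: f => actW d (imgs d f) (varV (d.rules.length + p)) ^^^ tails f

/-- The validity of a relation and its vector. -/
def relVal : Rel → Bool × ℕ
  | .assoc x y z =>
    let A := norm d [x, y, z] 0
    let B := norm d [y, z] 0
    let C := norm d (x :: B.1) B.2
    (A.1 == C.1, A.2 ^^^ C.2)
  | .fuse t f g =>
    let M := (d.fus.getD t ((0, 0), [])).2
    let A := norm d (srcs d f) 0
    let A' := norm d (srcs d g) 0
    let B := norm d (imgs d f) (tails d f)
    let B' := norm d (imgs d g) (tails d g)
    ((f ++ g).all (fun p => Nat.blt p d.pairs.length && Nat.beq (d.pairs.getD p (0, [], [])).1 t) &&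
      Nat.blt t d.fus.length && A.1 == A'.1 && B.1 == B'.1,
      (B.2 ^^^ act M A.2) ^^^ (B'.2 ^^^ act M A'.2))

/-- The correcting vector of a word. -/
def dW : List ℕ → ℕ
  | [] => 0
  | q :: r => actW d r (d.delta.getD q 0) ^^^ dW r

/-- The exceptional term of a rule. -/
def zTerm (q : ℕ) : ℕ :=
  xorTo (fun r => (bif (d.z.getD q 0).testBit r then d.lam else 0) <<< (wid * r)) dim

/-- The defect of a rule after correction. -/
def residual (q : ℕ) : ℕ :=
  varV q ^^^ dW d (d.rules.getD q ([], [])).1 ^^^ dW d (d.rules.getD q ([], [])).2 ^^^ zTerm d q

/-- Letters in range. -/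
def letters (u : List ℕ) : Bool := u.all fun q => Nat.blt q d.a.length

/-- The group elements of the data. -/
def baseOK (levels : List CLevel) : Bool :=
  checkCert 5 24 d.a d.derived d.levels &&
  d.a.all (fun e => sift 5 24 levels e.1) &&
  d.rules.all (fun r => letters d r.1 && letters d r.2 &&
    sameC 5 24 (r.1.map fun i => (d.a.getD i (0, 0)).1) (r.2.map fun i => (d.a.getD i (0, 0)).1)) &&
  d.fus.all (fun F => validElt 5 24 F.1 && sift 5 24 levels F.1.1) &&
  d.pairs.all (fun p => Nat.blt p.1 d.fus.length && letters d p.2.1 && letters d p.2.2 &&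
    sameC 5 24 ((d.fus.getD p.1 ((0, 0), [])).1.1 :: p.2.1.map fun i => (d.a.getD i (0, 0)).1)
      ((p.2.2.map fun i => (d.a.getD i (0, 0)).1) ++ [(d.fus.getD p.1 ((0, 0), [])).1.1])) &&
  Nat.ble ((d.rules.length + d.pairs.length) * dim) wid

/-- The letters of a relation are in range. -/
def relLetters : Rel → Bool
  | .assoc x y z => letters d [x, y, z]
  | .fuse _ _ _ => true

/-- The listed equations are the vectors of the relations. -/
def eqsOK : Bool :=
  d.rels.all (fun R => (relVal d R).1 && relLetters d R) &&
  (d.rels.flatMap fun R => (List.range dim).map fun r => get wid (relVal d R).2 r) == d.eqs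

/-- The corrected defects follow from the equations. -/
def combosOK : Bool :=
  allBelow (fun q => allBelow (fun r =>
    Nat.beq (xorTo (fun e => bif ((d.combos.getD q []).getD r 0).testBit e then d.eqs.getD e 0 else 0) d.eqs.length)
      (get wid (residual d q) r)) dim) d.rules.length

/-- The listed words are representatives of the elements of the Sylow subgroup. -/
def subsOK : Bool :=
  d.subs.any (fun s => s == []) && d.subs.all (fun s => letters d s &&
    (s == [] || !sameC 5 24 (s.map fun i => (d.a.getD i (0, 0)).1) []) &&
    allBelow (fun q => d.subs.any fun s' => s' == (norm d (s ++ [q]) 0).1) d.a.length)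

end Cfsg.Agent.ExtM23
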