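import Cfsg.Agent.S2036
import Cfsg.Agent.S2037
import Cfsg.Agent.Lib.ExtM23.Code
import Mathlib.GroupTheory.SemidirectProduct
import Mathlib.Logic.Equiv.Option

/-! The extension of M23 induced from the double cover of M22, modulo the code. -/

set_option autoImplicit false

namespace Cfsg.Agent.ExtM23

open Cfsg Cfsg.Agent.Golay
open scoped Pointwise commutatorElement

theorem fix_none (σ : Spor.M23) : (σ : Equiv.Perm GolayPt) none = none :=
  MulAction.mem_stabilizer_iff.1 σ.2.2

theorem code_invariant {w : Word} (σ : Spor.M23) (hw : w ∈ golayCode) :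
    w ∘ ⇑(σ : Equiv.Perm GolayPt)⁻¹ ∈ golayCode := by
  have h : (σ : Equiv.Perm GolayPt) • supports (golayCode : Set Word) = supports (golayCode : Set Word) := σ.2.1
  have h2 : (σ : Equiv.Perm GolayPt) • support₂ w ∈ supports (golayCode : Set Word) := by
    rw [← h]; exact Set.smul_mem_smul_set ⟨w, hw, rfl⟩
  obtain ⟨w', hw', e⟩ := h2
  suffices w ∘ ⇑(σ : Equiv.Perm GolayPt)⁻¹ = w' by rw [this]; exact hw'
  funext p
  have hp := Finset.ext_iff.1 e p
  rw [← Finset.inv_smul_mem_iff] at hp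
  simp only [support₂, Finset.mem_filter, Finset.mem_univ, true_and, Equiv.Perm.smul_def, Equiv.Perm.inv_def] at hp
  simp only [Function.comp_apply, Equiv.Perm.inv_def]
  rcases zmod2_cases (w' p) with a | a <;>
    rcases zmod2_cases (w ((σ : Equiv.Perm GolayPt).symm p)) with b | b <;> simp_all

theorem m23_perfect : commutator Spor.M23 = ⊤ := by
  haveI := isSimpleGroup_sporM23
  rcases (inferInstance : (commutator Spor.M23).Normal).eq_bot_or_eq_top with h | h
  · exfalso
    have hcomm : ∀ a b : Spor.M23, a * b = b * a := fun a b => by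
      have := Subgroup.commutator_mem_commutator (H₁ := (⊤ : Subgroup Spor.M23)) (H₂ := ⊤)
        (Subgroup.mem_top a) (Subgroup.mem_top b)
      rw [← commutator_def, h, Subgroup.mem_bot] at this
      exact commutatorElement_eq_one_iff_mul_comm.1 this
    letI : CommGroup Spor.M23 := { (inferInstance : Group Spor.M23) with mul_comm := hcomm }
    have := IsSimpleGroup.prime_card (α := Spor.M23)
    rw [card_sporM23] at this
    norm_num at this
  · exact h

/-- A central extension of M22 by a group of order two, generated by a commutator. -/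
theorem exists_double_cover :
    ∃ (Γ : Type) (_ : Group Γ) (_ : Finite Γ) (π : Γ →* Spor.M22) (ζ : Γ), Function.Surjective π ∧
      ζ ∈ Subgroup.center Γ ∧ ζ ∈ commutator Γ ∧ ζ ≠ 1 ∧ ζ * ζ = 1 ∧ ∀ x, π x = 1 ↔ (x = 1 ∨ x = ζ) := by
  obtain ⟨⟨X, iX, fX, σ, ⟨hs, hc, hm⟩, ⟨e⟩⟩, -⟩ := S2036.result
  let ρ : σ.ker →* Multiplicative (ZMod 2) :=
    (AddMonoidHom.toMultiplicative (ZMod.castHom (show 2 ∣ 12 by norm_num) (ZMod 2)).toAddMonoidHom).comp
      e.toMonoidHom
  set c : σ.ker := e.symm (Multiplicative.ofAdd 1) with hcdef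
  have hρc : ρ c = Multiplicative.ofAdd 1 := by simp [ρ, hcdef]
  let L : Subgroup X := ρ.ker.map σ.ker.subtype
  have hLc : L ≤ Subgroup.center X := by rintro _ ⟨x, -, rfl⟩; exact hc x.2
  haveI : L.Normal := ⟨fun n hn g => by
    rwa [Subgroup.mem_center_iff.1 (hLc hn) g, mul_inv_cancel_right]⟩
  have hmemL : ∀ x : σ.ker, (x : X) ∈ L ↔ ρ x = 1 := fun x =>
    ⟨fun ⟨y, hy, h⟩ => Subtype.ext h ▸ hy, fun h => ⟨x, h, rfl⟩⟩
  refine ⟨X ⧸ L, inferInstance, inferInstance, QuotientGroup.lift L σ (fun x ⟨y, _, h⟩ => h ▸ y.2),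
    QuotientGroup.mk (c : X), fun y => ?_, ?_, ?_, ?_, ?_, fun q => ⟨fun hq => ?_, ?_⟩⟩
  · obtain ⟨x, hx⟩ := hs y
    exact ⟨QuotientGroup.mk x, hx⟩
  · rw [Subgroup.mem_center_iff]
    intro q
    obtain ⟨x, rfl⟩ := QuotientGroup.mk_surjective q
    rw [← QuotientGroup.mk_mul, ← QuotientGroup.mk_mul, Subgroup.mem_center_iff.1 (hc c.2) x]
  · have := Subgroup.mem_map_of_mem (QuotientGroup.mk' L) (hm c.2)
    rw [commutator_def, Subgroup.map_commutator] at this
    exact Subgroup.commutator_mono le_top le_top this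
  · intro h
    rw [QuotientGroup.eq_one_iff, hmemL, hρc] at h
    exact absurd h (by decide)
  · rw [← QuotientGroup.mk_mul, QuotientGroup.eq_one_iff, show (c : X) * c = ((c * c : σ.ker) : X) from rfl,
      hmemL, map_mul, hρc]
    decide
  · obtain ⟨x, rfl⟩ := QuotientGroup.mk_surjective q
    have hx : x ∈ σ.ker := hq
    rcases (by decide : ∀ a : Multiplicative (ZMod 2), a = 1 ∨ a = Multiplicative.ofAdd 1) (ρ ⟨x, hx⟩) with h | h
    · exact Or.inl ((QuotientGroup.eq_one_iff x).2 ((hmemL ⟨x, hx⟩).2 h))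
    · refine Or.inr (QuotientGroup.eq.2 ?_)
      rw [show x⁻¹ * (c : X) = (((⟨x, hx⟩ : σ.ker)⁻¹ * c : σ.ker) : X) from rfl, hmemL, map_mul, map_inv, h, hρc,
        inv_mul_cancel]
  · rintro (rfl | rfl)
    · exact map_one _
    · exact c.2

/-- The permutation of the residues induced by an element of M23. -/
def resPerm : Spor.M23 →* Equiv.Perm (ZMod 23) where
  toFun σ := Equiv.removeNone (σ : Equiv.Perm GolayPt)
  map_one' := Equiv.ext fun x => Option.some_injective _ (by
    rw [Equiv.removeNone_some _ ⟨x, rfl⟩]; rfl)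
  map_mul' a b := Equiv.ext fun x => Option.some_injective _ (by
    have key : ∀ (σ : Spor.M23) (y : ZMod 23), some (Equiv.removeNone (σ : Equiv.Perm GolayPt) y) =
        (σ : Equiv.Perm GolayPt) (some y) := fun σ y => Equiv.removeNone_some _ (by
      cases h : (σ : Equiv.Perm GolayPt) (some y) with
      | none => exact absurd ((σ : Equiv.Perm GolayPt).injective (h.trans (fix_none σ).symm)) (by simp)
      | some z => exact ⟨z, rfl⟩)
    rw [Equiv.Perm.mul_apply, key, key, key]
    rfl)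

theorem some_resPerm (σ : Spor.M23) (y : ZMod 23) :
    some (resPerm σ y) = (σ : Equiv.Perm GolayPt) (some y) :=
  Equiv.removeNone_some _ (by
    cases h : (σ : Equiv.Perm GolayPt) (some y) with
    | none => exact absurd ((σ : Equiv.Perm GolayPt).injective (h.trans (fix_none σ).symm)) (by simp)
    | some z => exact ⟨z, rfl⟩)

theorem resPerm_inv_some (σ : Spor.M23) (y : ZMod 23) :
    some ((resPerm σ)⁻¹ y) = ((σ : Equiv.Perm GolayPt)⁻¹) (some y) := by
  rw [← map_inv, some_resPerm]
  rfl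

theorem exists_transversal :
    ∃ t : ZMod 23 → Spor.M23, t 0 = 1 ∧ ∀ y, (t y : Equiv.Perm GolayPt) (some 0) = some y := by
  have h : ∀ y : ZMod 23, ∃ t : Spor.M23, (t : Equiv.Perm GolayPt) (some 0) = some y ∧ (y = 0 → t = 1) := by
    intro y
    by_cases hy : y = 0
    · exact ⟨1, by simp [hy], fun _ => rfl⟩
    · obtain ⟨g, hg, h⟩ := exists_M24_map' (k := 2) (by norm_num) (x := ![none, some 0]) (y := ![none, some y])
        (by intro i j; fin_cases i <;> fin_cases j <;> simp)
        (by intro i j; fin_cases i <;> fin_cases j <;> simp)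
      exact ⟨⟨g, hg, MulAction.mem_stabilizer_iff.2 (h 0)⟩, h 1, fun e => absurd e hy⟩
  choose t ht using h
  exact ⟨t, (ht 0).2 rfl, fun y => (ht y).1⟩

section Wreath

variable (Γ : Type) [Group Γ]

/-- The action on functions. -/
def wAct : Spor.M23 →* MulAut (ZMod 23 → Γ) where
  toFun σ :=
    { toFun := fun f y => f ((resPerm σ)⁻¹ y)
      invFun := fun f y => f (resPerm σ y)
      left_inv := fun f => funext fun y => by simp
      right_inv := fun f => funext fun y => by simp
      map_mul' := fun f g => rfl }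
  map_one' := MulEquiv.ext fun f => funext fun y => by simp
  map_mul' a b := MulEquiv.ext fun f => funext fun y => by simp [mul_inv_rev]

/-- The wreath product. -/
abbrev Wr : Type := (ZMod 23 → Γ) ⋊[wAct Γ] Spor.M23

variable {Γ}

/-- The induced extension. -/
def indGroup (π : Γ →* Spor.M22) (t : ZMod 23 → Spor.M23) : Subgroup (Wr Γ) where
  carrier := {g | ∀ y, (π (g.left y) : Equiv.Perm GolayPt) =
    (t y : Equiv.Perm GolayPt)⁻¹ * g.right * t ((resPerm g.right)⁻¹ y)}
  one_mem' y := by simp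
  mul_mem' {a b} ha hb y := by
    rw [SemidirectProduct.mul_left, SemidirectProduct.mul_right]
    show (π (a.left y * b.left ((resPerm a.right)⁻¹ y)) : Equiv.Perm GolayPt) = _
    rw [map_mul, Subgroup.coe_mul, ha, hb, map_mul, mul_inv_rev, Equiv.Perm.mul_apply, Subgroup.coe_mul]
    group
  inv_mem' {a} ha y := by
    rw [SemidirectProduct.inv_left, SemidirectProduct.inv_right]
    show (π (a.left ((resPerm a.right⁻¹)⁻¹ y))⁻¹ : Equiv.Perm GolayPt) = _
    rw [map_inv, Subgroup.coe_inv, ha, map_inv, inv_inv,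
      show (resPerm a.right)⁻¹ (resPerm a.right y) = y from (resPerm a.right).symm_apply_apply y,
      Subgroup.coe_inv]
    group

end Wreath

/-- A non-split extension of M23 by its cocode module exists. -/
theorem exists_nonsplit :
    ∃ (E : Type) (_ : Group E) (_ : Finite E) (N : Subgroup E) (_ : N.Normal)
      (φ : E ⧸ N ≃* ↥Spor.M23) (θ : Word →+ Additive ↥N),
      Function.Surjective θ ∧
      (∀ w : Word, θ w = 0 ↔ (w ∈ golayCode ∨ w + Pi.single none 1 ∈ golayCode)) ∧
      (∀ (g : E) (w : Word),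
        ((θ (w ∘ ⇑(((φ (QuotientGroup.mk g) : ↥Spor.M23) : Equiv.Perm GolayPt)⁻¹))).toMul : E)
          = g * ((θ w).toMul : E) * g⁻¹) ∧
      ∀ H : Subgroup E, H ⊓ N = ⊥ → H ⊔ N ≠ ⊤ := by
  classical
  obtain ⟨Γ, iΓ, fΓ, π, ζ, hπs, hζc, hζm, hζ1, hζ2, hπk⟩ := exists_double_cover
  obtain ⟨t, ht0, ht⟩ := exists_transversal
  haveI : Finite (Wr Γ) :=
    Finite.of_equiv _ (SemidirectProduct.equivProd (φ := wAct Γ)).symm
  let G := indGroup π t
  let p : G →* Spor.M23 := SemidirectProduct.rightHom.comp G.subtype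
  have hp : Function.Surjective p := by
    intro σ
    have hy : ∀ y, (t y)⁻¹ * σ * t ((resPerm σ)⁻¹ y) ∈
        (Spor.M22.comap Spor.M23.subtype : Subgroup Spor.M23) := fun y => by
      refine ⟨((t y)⁻¹ * σ * t ((resPerm σ)⁻¹ y)).2, MulAction.mem_stabilizer_iff.2 ?_⟩
      show ((t y : Equiv.Perm GolayPt)⁻¹ * σ * t ((resPerm σ)⁻¹ y)) (some 0) = some 0
      rw [Equiv.Perm.mul_apply, Equiv.Perm.mul_apply, ht, ← some_resPerm,
        show resPerm σ ((resPerm σ)⁻¹ y) = y from (resPerm σ).apply_symm_apply y]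
      exact ((t y : Equiv.Perm GolayPt).symm_apply_eq).2 (ht y).symm
    choose f hf using fun y => hπs ⟨_, hy y⟩
    refine ⟨⟨⟨f, σ⟩, fun y => ?_⟩, rfl⟩
    show (π (f y) : Equiv.Perm GolayPt) = _
    rw [hf]
    rfl
  -- the central functions
  let ξ : ZMod 2 → Γ := fun a => if a = 1 then ζ else 1
  have hξ : ∀ a b, ξ (a + b) = ξ a * ξ b := by
    intro a b
    rcases zmod2_cases a with rfl | rfl <;> rcases zmod2_cases b with rfl | rfl <;>
      simp [ξ, hζ2, show ((1 : ZMod 2) + 1) = 0 by decide]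
  have hξc : ∀ a, ξ a ∈ Subgroup.center Γ := fun a => by
    simp only [ξ]; split
    exacts [hζc, one_mem _]
  have hξ0 : ∀ a, ξ a = 1 ↔ a = 0 := fun a => by
    rcases zmod2_cases a with rfl | rfl <;> simp [ξ, hζ1]
  have hξk : ∀ a, π (ξ a) = 1 := fun a => (hπk _).2 (by simp only [ξ]; split <;> simp)
  let θ₁ : Multiplicative Word →* G :=
    { toFun := fun w => ⟨SemidirectProduct.inl fun y => ξ (w.toAdd (some y)), fun y => by
        show (π (ξ _) : Equiv.Perm GolayPt) =
          (t y : Equiv.Perm GolayPt)⁻¹ * ((1 : Spor.M23) : Equiv.Perm GolayPt) * t ((resPerm 1)⁻¹ y)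
        rw [hξk, map_one, inv_one, Equiv.Perm.one_apply]
        simp⟩
      map_one' := Subtype.ext (by
        show SemidirectProduct.inl _ = (1 : Wr Γ)
        rw [← map_one (SemidirectProduct.inl : (ZMod 23 → Γ) →* Wr Γ)]
        exact congrArg _ (funext fun y => (hξ0 _).2 rfl))
      map_mul' := fun a b => Subtype.ext (by
        show SemidirectProduct.inl _ = SemidirectProduct.inl _ * SemidirectProduct.inl _
        rw [← map_mul]
        exact congrArg _ (funext fun y => hξ _ _)) }
  have hθ₁ : ∀ w, θ₁ w = 1 ↔ ∀ y, w.toAdd (some y) = 0 := fun w => by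
    constructor
    · intro h y
      have := congrFun (congrArg SemidirectProduct.left (congrArg Subtype.val h)) y
      exact (hξ0 _).1 this
    · intro h
      refine Subtype.ext ?_
      show SemidirectProduct.inl _ = (1 : Wr Γ)
      rw [← map_one (SemidirectProduct.inl : (ZMod 23 → Γ) →* Wr Γ)]
      exact congrArg _ (funext fun y => (hξ0 _).2 (h y))
  have hrange : θ₁.range = p.ker := by
    refine le_antisymm ?_ fun g hg => ?_
    · rintro _ ⟨w, rfl⟩
      show SemidirectProduct.rightHom (SemidirectProduct.inl (φ := wAct Γ)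
        (fun y => ξ (w.toAdd (some y)))) = 1
      exact SemidirectProduct.rightHom_inl _
    · have hr : g.1.right = 1 := hg
      have hk : ∀ y, g.1.left y = 1 ∨ g.1.left y = ζ := fun y => (hπk _).1 (Subtype.ext (by
        rw [g.2 y, hr, map_one, inv_one, Equiv.Perm.one_apply, OneMemClass.coe_one, mul_one, inv_mul_cancel]
        rfl))
      refine ⟨Multiplicative.ofAdd fun q => match q with
        | none => 0
        | some y => if g.1.left y = 1 then 0 else 1, Subtype.ext (SemidirectProduct.ext (funext fun y => ?_) hr.symm)⟩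
      show ξ (if g.1.left y = 1 then 0 else 1) = g.1.left y
      split
      · simp [ξ, *]
      · rename_i h; simp [ξ, (hk y).resolve_left h]
  have hconj : ∀ (g : G) (w : Multiplicative Word), g * θ₁ w * g⁻¹ =
      θ₁ (Multiplicative.ofAdd (w.toAdd ∘ ⇑((p g : Equiv.Perm GolayPt)⁻¹))) := fun g w => by
    refine Subtype.ext (SemidirectProduct.ext (funext fun y => ?_) ?_)
    · show (g.1 * SemidirectProduct.inl (fun y => ξ (w.toAdd (some y))) * g.1⁻¹).left y =
        ξ (w.toAdd ((g.1.right : Equiv.Perm GolayPt)⁻¹ (some y)))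
      rw [← resPerm_inv_some]
      simp only [SemidirectProduct.mul_left, SemidirectProduct.mul_right, SemidirectProduct.left_inl,
        SemidirectProduct.right_inl, mul_one, SemidirectProduct.inv_left, ← MulAut.mul_apply, ← map_mul,
        mul_inv_cancel, map_one, MulAut.one_apply, Pi.mul_apply, Pi.inv_apply]
      show g.1.left y * ξ (w.toAdd (some ((resPerm g.1.right)⁻¹ y))) * (g.1.left y)⁻¹ = _
      rw [Subgroup.mem_center_iff.1 (hξc _), mul_inv_cancel_right]
    · simp [θ₁]
  -- the image of the code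
  let C : Subgroup G := (AddSubgroup.toSubgroup golayCode.toAddSubgroup).map θ₁
  haveI : C.Normal := ⟨fun n ⟨w, hw, e⟩ g =>
    ⟨Multiplicative.ofAdd (w.toAdd ∘ ⇑((p g : Equiv.Perm GolayPt)⁻¹)), code_invariant (p g) hw, by rw [← e, hconj]⟩⟩
  let q : G ⧸ C →* Spor.M23 := QuotientGroup.lift C p fun n ⟨w, _, e⟩ => by
    have : n ∈ θ₁.range := ⟨w, e⟩
    rwa [hrange] at this
  have hq : Function.Surjective q := fun σ => by
    obtain ⟨g, rfl⟩ := hp σ
    exact ⟨QuotientGroup.mk g, rfl⟩
  let θ : Word →+ Additive q.ker :=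
    { toFun := fun w => Additive.ofMul ⟨QuotientGroup.mk (θ₁ (Multiplicative.ofAdd w)), by
        have : θ₁ (Multiplicative.ofAdd w) ∈ p.ker := hrange ▸ ⟨_, rfl⟩
        exact this⟩
      map_zero' := Subtype.ext (by show QuotientGroup.mk (θ₁ 1) = 1; rw [map_one]; rfl)
      map_add' := fun a b => Subtype.ext (by
        show QuotientGroup.mk (θ₁ (Multiplicative.ofAdd a * Multiplicative.ofAdd b)) = _
        rw [map_mul]; rfl) }
  refine ⟨G ⧸ C, inferInstance, inferInstance, q.ker, inferInstance,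
    QuotientGroup.quotientKerEquivOfSurjective q hq, θ, ?_, fun w => ⟨fun hw => ?_, fun hw => ?_⟩, ?_, ?_⟩
  · intro x
    obtain ⟨g, hg⟩ := QuotientGroup.mk_surjective (x.toMul : G ⧸ C)
    have : g ∈ p.ker := by
      have h := x.toMul.2
      rw [MonoidHom.mem_ker, ← hg] at h
      exact h
    rw [← hrange] at this
    obtain ⟨w, rfl⟩ := this
    exact ⟨w.toAdd, Subtype.ext hg⟩
  · have h : θ₁ (Multiplicative.ofAdd w) ∈ C := (QuotientGroup.eq_one_iff _).1 (congrArg Subtype.val hw)
    obtain ⟨v, hv, e⟩ := h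
    have h2 : θ₁ (Multiplicative.ofAdd (w - v.toAdd)) = 1 := by
      rw [ofAdd_sub, map_div, div_eq_one]; exact e.symm
    rw [hθ₁] at h2
    rcases zmod2_cases (w none - v.toAdd none) with h3 | h3
    · left
      have : w = v.toAdd := funext fun x => sub_eq_zero.1 (by cases x <;> [exact h3; exact h2 _])
      exact this ▸ hv
    · right
      have : w + Pi.single none 1 = v.toAdd := funext fun x => by
        cases x with
        | none =>
          rw [Pi.add_apply, Pi.single_eq_same, sub_eq_iff_eq_add.1 h3]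
          exact (by decide : ∀ a : ZMod 2, 1 + a + 1 = a) _
        | some y => rw [Pi.add_apply, Pi.single_eq_of_ne (by simp), add_zero]; exact sub_eq_zero.1 (h2 y)
      exact this ▸ hv
  · refine Subtype.ext ((QuotientGroup.eq_one_iff _).2 ?_)
    rcases hw with hw | hw
    · exact ⟨_, hw, rfl⟩
    · refine ⟨Multiplicative.ofAdd (w + Pi.single none 1), hw, ?_⟩
      rw [ofAdd_add, map_mul, (hθ₁ (Multiplicative.ofAdd (Pi.single none 1 : Word))).2 (fun y => by simp),
        mul_one]
  · intro x w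
    obtain ⟨g, rfl⟩ := QuotientGroup.mk_surjective x
    show QuotientGroup.mk (θ₁ (Multiplicative.ofAdd (w ∘ ⇑(p g : Equiv.Perm GolayPt)⁻¹))) = _
    rw [show θ₁ (Multiplicative.ofAdd (w ∘ ⇑(p g : Equiv.Perm GolayPt)⁻¹)) =
      g * θ₁ (Multiplicative.ofAdd w) * g⁻¹ from (hconj g (Multiplicative.ofAdd w)).symm]
    rfl
  · intro H hH1 hH2
    let H₁ : Subgroup G := H.comap (QuotientGroup.mk' C)
    let p₁ : H₁ →* Spor.M23 := p.comp H₁.subtype
    have hp₁ : Function.Surjective p₁ := by
      intro σ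
      obtain ⟨x, rfl⟩ := hq σ
      haveI : q.ker.Normal := inferInstance
      have hx : x ∈ ((H ⊔ q.ker : Subgroup (G ⧸ C)) : Set (G ⧸ C)) := by rw [hH2]; exact Set.mem_univ _
      rw [Subgroup.mul_normal] at hx
      obtain ⟨h, hh, k, hk, rfl⟩ := hx
      obtain ⟨g, rfl⟩ := QuotientGroup.mk_surjective h
      refine ⟨⟨g, hh⟩, ?_⟩
      show p g = q (_ * k)
      rw [map_mul, MonoidHom.mem_ker.1 hk, mul_one]
      rfl
    have hker₁ : ∀ h : H₁, p₁ h = 1 → (h : G) ∈ C := fun h hh => by
      have h2 : (QuotientGroup.mk (h : G) : G ⧸ C) ∈ H ⊓ q.ker := ⟨h.2, hh⟩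
      rw [hH1, Subgroup.mem_bot] at h2
      exact (QuotientGroup.eq_one_iff _).1 h2
    -- divide by the words vanishing at the extra point
    let C₀w : Subgroup (Multiplicative Word) :=
      { carrier := {w | w.toAdd ∈ golayCode ∧ w.toAdd none = 0}
        one_mem' := ⟨golayCode.zero_mem, rfl⟩
        mul_mem' := fun {a b} ha hb => ⟨golayCode.add_mem ha.1 hb.1, by
          show a.toAdd none + b.toAdd none = 0
          rw [ha.2, hb.2, add_zero]⟩
        inv_mem' := fun {a} ha => ⟨golayCode.neg_mem ha.1, by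
          show -a.toAdd none = 0
          rw [ha.2, neg_zero]⟩ }
    let C₀ : Subgroup H₁ := (C₀w.map θ₁).subgroupOf H₁
    haveI hC₀ : C₀.Normal := ⟨fun n ⟨w, hw, e⟩ g =>
      ⟨Multiplicative.ofAdd (w.toAdd ∘ ⇑((p g.1 : Equiv.Perm GolayPt)⁻¹)), ⟨code_invariant (p g.1) hw.1, by
      show w.toAdd ((p g.1 : Equiv.Perm GolayPt)⁻¹ none) = 0
      rw [show ((p g.1 : Equiv.Perm GolayPt)⁻¹) none = none from
        (Equiv.symm_apply_eq _).2 (fix_none (p g.1)).symm]
      exact hw.2⟩, by
      exact (hconj (g : G) w).symm.trans (congrArg (fun z => (g : G) * z * (g : G)⁻¹) e)⟩⟩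
    let η : H₁ ⧸ C₀ →* Spor.M23 := QuotientGroup.lift C₀ p₁ fun n ⟨w, _, e⟩ => by
      have : (n : G) ∈ θ₁.range := ⟨w, e⟩
      rwa [hrange] at this
    have hη : Function.Surjective η := fun σ => by
      obtain ⟨h, rfl⟩ := hp₁ σ
      exact ⟨QuotientGroup.mk h, rfl⟩
    have hηc : η.ker ≤ Subgroup.center (H₁ ⧸ C₀) := by
      intro x hx
      obtain ⟨h, rfl⟩ := QuotientGroup.mk_surjective x
      obtain ⟨w, hw, e⟩ := hker₁ h hx
      rw [Subgroup.mem_center_iff]
      intro y
      obtain ⟨g, rfl⟩ := QuotientGroup.mk_surjective y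
      symm
      rw [← QuotientGroup.mk_mul, ← QuotientGroup.mk_mul, QuotientGroup.eq]
      refine ⟨Multiplicative.ofAdd (w.toAdd ∘ ⇑((p (g : G)⁻¹ : Equiv.Perm GolayPt)⁻¹) + w.toAdd),
        ⟨golayCode.add_mem (code_invariant _ hw) hw, ?_⟩, ?_⟩
      · show w.toAdd (((p (g : G)⁻¹ : Equiv.Perm GolayPt)⁻¹) none) + w.toAdd none = 0
        rw [show ((p (g : G)⁻¹ : Equiv.Perm GolayPt)⁻¹) none = none from
          (Equiv.symm_apply_eq _).2 (fix_none (p (g : G)⁻¹)).symm]
        exact (by decide : ∀ a : ZMod 2, a + a = 0) _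
      · show θ₁ _ = ((h : G) * (g : G))⁻¹ * ((g : G) * (h : G))
        have hh : (h : G)⁻¹ = θ₁ w := by
          rw [← e, ← map_inv]
          refine congrArg θ₁ (Multiplicative.toAdd.injective ?_)
          funext x
          exact (by decide : ∀ a : ZMod 2, -a = a) _
        rw [ofAdd_add, map_mul, ← hconj, mul_inv_rev, inv_inv, hh, ← e]
        simp [mul_assoc]
    have hbot := Schur.inf_commutator_eq_bot S2037.result η hη hηc
    -- the derived group is a complement
    let H₂ : Subgroup H₁ := (commutator (H₁ ⧸ C₀)).comap (QuotientGroup.mk' C₀)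
    let p₂ : H₂ →* Spor.M23 := p₁.comp H₂.subtype
    have hp₂ : Function.Surjective p₂ := by
      intro σ
      have hσ : σ ∈ (commutator (H₁ ⧸ C₀)).map η := by
        rw [commutator_def, Subgroup.map_commutator, Subgroup.map_top_of_surjective η hη, ← commutator_def,
          m23_perfect]
        exact Subgroup.mem_top σ
      obtain ⟨x, hx, rfl⟩ := hσ
      obtain ⟨h, rfl⟩ := QuotientGroup.mk_surjective x
      exact ⟨⟨h, hx⟩, rfl⟩
    have hker₂ : ∀ h : H₂, p₂ h = 1 → ∃ w ∈ C₀w, θ₁ w = ((h : H₁) : G) := fun h hh => by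
      have h2 : (QuotientGroup.mk (h : H₁) : H₁ ⧸ C₀) ∈ η.ker ⊓ commutator (H₁ ⧸ C₀) := ⟨hh, h.2⟩
      rw [hbot, Subgroup.mem_bot, QuotientGroup.eq_one_iff] at h2
      exact h2
    have hC₀H : ∀ w ∈ C₀w, ∃ h : H₂, ((h : H₁) : G) = θ₁ w := fun w hw => by
      have h1 : θ₁ w ∈ H₁ := by
        show QuotientGroup.mk (θ₁ w) ∈ H
        rw [(QuotientGroup.eq_one_iff _).2 (show θ₁ w ∈ C from ⟨w, hw.1, rfl⟩)]; exact H.one_mem
      have h2 : (⟨θ₁ w, h1⟩ : H₁) ∈ H₂ := by
        show QuotientGroup.mk _ ∈ commutator (H₁ ⧸ C₀)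
        rw [(QuotientGroup.eq_one_iff _).2 (show (⟨θ₁ w, h1⟩ : H₁) ∈ C₀ from ⟨w, hw, rfl⟩)]; exact one_mem _
      exact ⟨⟨_, h2⟩, rfl⟩
    choose wd hwd hwe using fun h : p₂.ker => hker₂ h.1 h.2
    have hwd_unique : ∀ {a b : Multiplicative Word}, a ∈ C₀w → b ∈ C₀w → θ₁ a = θ₁ b → a = b := by
      intro a b ha hb h
      rw [← div_eq_one, ← map_div, hθ₁] at h
      refine Multiplicative.toAdd.injective (funext fun x => ?_)
      cases x with
      | none => rw [ha.2, hb.2]
      | some y => exact sub_eq_zero.1 (h y)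
    let ψ : Additive p₂.ker →+ Word :=
      { toFun := fun h => (wd h.toMul).toAdd
        map_zero' := congrArg Multiplicative.toAdd
          (hwd_unique (hwd _) (one_mem C₀w) ((hwe _).trans (map_one θ₁).symm))
        map_add' := fun a b => congrArg Multiplicative.toAdd
          (hwd_unique (b := wd a.toMul * wd b.toMul) (hwd (a + b).toMul) (C₀w.mul_mem (hwd a.toMul) (hwd b.toMul))
            ((hwe (a + b).toMul).trans (by rw [map_mul, hwe, hwe]; rfl))) }
    obtain ⟨K, hK⟩ := split p₂ hp₂ p₂.ker rfl ψ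
      (fun a b hab => Additive.toMul.injective (Subtype.ext (Subtype.ext (Subtype.ext (by
        rw [← hwe, ← hwe, Multiplicative.toAdd.injective hab])))))
      (fun w => ⟨fun ⟨h, e⟩ => e ▸ hwd h.toMul, fun hw => by
        obtain ⟨h, e⟩ := hC₀H (Multiplicative.ofAdd w) hw
        have hk : h ∈ p₂.ker := by
          show p ((h : H₁) : G) = 1
          have : θ₁ (Multiplicative.ofAdd w) ∈ p.ker := hrange ▸ ⟨_, rfl⟩
          rw [e]; exact this
        exact ⟨Additive.ofMul ⟨h, hk⟩, congrArg Multiplicative.toAdd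
          (hwd_unique (b := Multiplicative.ofAdd w) (hwd _) hw ((hwe _).trans e))⟩⟩)
      (fun g n => by
        show (wd _).toAdd = (wd n).toAdd ∘ _
        refine congrArg Multiplicative.toAdd (hwd_unique
          (b := Multiplicative.ofAdd ((wd n).toAdd ∘ ⇑((p₂ g : Equiv.Perm GolayPt)⁻¹))) (hwd _)
          ⟨code_invariant _ (hwd n).1, ?_⟩ ?_)
        · show (wd n).toAdd ((p₂ g : Equiv.Perm GolayPt)⁻¹ none) = 0
          rw [show ((p₂ g : Equiv.Perm GolayPt)⁻¹) none = none from
            (Equiv.symm_apply_eq _).2 (fix_none (p₂ g)).symm]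
          exact (hwd n).2
        · rw [hwe, show p₂ g = p ((g : H₁) : G) from rfl, ← hconj, hwe]
          rfl)
    let p₃ : K →* Spor.M23 := p₂.comp K.subtype
    have hp₃ : Function.Bijective p₃ := by
      refine ⟨(injective_iff_map_eq_one p₃).2 fun k hk => Subtype.ext
        (Subgroup.mem_bot.1 (hK.disjoint.le_bot ⟨hk, k.2⟩)), fun σ => ?_⟩
      obtain ⟨g, rfl⟩ := hp₂ σ
      obtain ⟨⟨⟨n, hn⟩, ⟨k, hk⟩⟩, rfl⟩ := hK.2 g
      refine ⟨⟨k, hk⟩, ?_⟩
      show p₂ k = p₂ (n * k)
      rw [map_mul, MonoidHom.mem_ker.1 hn, one_mul]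
    let sec : Spor.M23 →* G :=
      ((H₁.subtype.comp H₂.subtype).comp K.subtype).comp (MulEquiv.ofBijective p₃ hp₃).symm.toMonoidHom
    have hsec : ∀ σ, p (sec σ) = σ := fun σ => (MulEquiv.ofBijective p₃ hp₃).apply_symm_apply σ
    let inc : Spor.M22 →* Spor.M23 := Subgroup.inclusion inf_le_left
    have h0 : ∀ x : Spor.M22, (resPerm (inc x))⁻¹ 0 = 0 := fun x => by
      apply Option.some_injective
      rw [resPerm_inv_some]
      exact (Equiv.symm_apply_eq _).2 (MulAction.mem_stabilizer_iff.1 x.2.2).symm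
    let s : Spor.M22 →* Γ :=
      { toFun := fun x => (sec (inc x)).1.left 0
        map_one' := by rw [map_one, map_one]; rfl
        map_mul' := fun a b => by
          rw [map_mul, map_mul]
          show (sec (inc a)).1.left 0 *
            (sec (inc b)).1.left ((resPerm (sec (inc a)).1.right)⁻¹ 0) = _
          rw [show (sec (inc a)).1.right = inc a from hsec _, h0] }
    have hs : ∀ x, π (s x) = x := fun x => Subtype.ext (by
      show (π ((sec (inc x)).1.left 0) : Equiv.Perm GolayPt) = _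
      rw [(sec (inc x)).2 0, show (sec (inc x)).1.right = inc x from hsec _, h0, ht0, OneMemClass.coe_one,
        inv_one, one_mul, mul_one]
      rfl)
    have hdec : ∀ x : Γ, ∃ z ∈ Subgroup.center Γ, x = s (π x) * z := fun x => by
      refine ⟨(s (π x))⁻¹ * x, ?_, by group⟩
      rcases (hπk ((s (π x))⁻¹ * x)).1 (by rw [map_mul, map_inv, hs, inv_mul_cancel]) with h | h
      · rw [h]; exact one_mem _
      · rw [h]; exact hζc
    have hle : commutator Γ ≤ s.range := by
      rw [commutator_def, Subgroup.commutator_le]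
      intro a _ b _
      obtain ⟨za, hza, ea⟩ := hdec a
      obtain ⟨zb, hzb, eb⟩ := hdec b
      refine ⟨⁅π a, π b⁆, ?_⟩
      have e1 : ∀ {c : Γ}, c ∈ Subgroup.center Γ → ∀ u v : Γ, ⁅u * c, v⁆ = ⁅u, v⁆ := fun {c} hc u v => by
        rw [commutatorElement_def, commutatorElement_def, mul_inv_rev, mul_assoc u c v,
          ← Subgroup.mem_center_iff.1 hc v]
        group
      rw [map_commutatorElement]
      conv_rhs => rw [ea, eb]
      rw [e1 hza, ← commutatorElement_inv (s (π b) * zb), e1 hzb, commutatorElement_inv]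
    obtain ⟨x, hx⟩ := hle hζm
    have : x = 1 := by
      rw [← hs x, hx]; exact (hπk ζ).2 (Or.inr rfl)
    rw [this, map_one] at hx
    exact hζ1 hx.symm

end Cfsg.Agent.ExtM23
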