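import Cfsg.Agent.Lib.ExtM23.Adapter

/-! Two extensions with the same corrected defects are isomorphic. -/

set_option autoImplicit false

namespace Cfsg.Agent.ExtM23

open Cfsg Cfsg.Agent.PermCert Cfsg.Agent.PermSchur Cfsg.Agent.Golay

theorem exists_iso {E E' : Type*} [Group E] [Finite E] [Group E'] [Finite E'] {d : Data} {gens : List Elt}
    {levels : List CLevel} {derived : List (Elt × List ℕ)} (hc : checkCert 5 24 gens derived levels = true)
    (hb : baseOK d levels = true) (hs : subsOK d = true)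
    (hodd : Odd (certOrder levels / certOrder d.levels))
    {π : E →* Equiv.Perm (Fin 24)} {π' : E' →* Equiv.Perm (Fin 24)} {R : Word → E → Prop} {R' : Word → E' → Prop}
    (X : Ext π R) (X' : Ext π' R') (hsame : ∀ w, R w 1 ↔ R' w 1)
    {ι : V → E} {ι' : V → E'} (S : Setup d gens π ι) (S' : Setup d gens π' ι') {L : List ℕ}
    (hι : ∀ v, R (wordOf L v) (ι v)) (hι' : ∀ v, R' (wordOf L v) (ι' v))
    {lift : ℕ → E} {lift' : ℕ → E'} (hl : LiftOK d π lift) (hl' : LiftOK d π' lift')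
    {z : ℕ → V} (hr : RuleOK d ι lift z) (hr' : RuleOK d ι' lift' z) :
    Nonempty (E ≃* E') := by
  classical
  let F : Subgroup (E × E') := (π.comp (MonoidHom.fst E E')).eqLocus (π'.comp (MonoidHom.snd E E'))
  have memF : ∀ p : E × E', p ∈ F ↔ π p.1 = π' p.2 := fun p => Iff.rfl
  have sq : ∀ {a x}, R a x → x * x = 1 := fun {a x} h => by
    have := X.add h h
    rw [show a + a = 0 from funext fun p => (by decide : ∀ t : ZMod 2, t + t = 0) (a p)] at this
    exact X.uniq this X.zero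
  have sq' : ∀ {a x}, R' a x → x * x = 1 := fun {a x} h => by
    have := X'.add h h
    rw [show a + a = 0 from funext fun p => (by decide : ∀ t : ZMod 2, t + t = 0) (a p)] at this
    exact X'.uniq this X'.zero
  let D : Subgroup F :=
    { carrier := {p | ∃ a, R a p.1.1 ∧ R' a p.1.2}
      one_mem' := ⟨0, X.zero, X'.zero⟩
      mul_mem' := fun ⟨a, ha, ha'⟩ ⟨b, hb, hb'⟩ => ⟨a + b, X.add ha hb, X'.add ha' hb'⟩
      inv_mem' := fun {p} ⟨a, ha, ha'⟩ => ⟨a, by
        show R a p.1.1⁻¹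
        rwa [inv_eq_of_mul_eq_one_right (sq ha)], by
        show R' a p.1.2⁻¹
        rwa [inv_eq_of_mul_eq_one_right (sq' ha')]⟩ }
  have hD : ∀ v, (⟨(ι v, ι' v), by
      rw [memF, X.ker (hι v), X'.ker (hι' v)]⟩ : F) ∈ D := fun v => ⟨_, hι v, hι' v⟩
  haveI : D.Normal := ⟨fun p ⟨a, ha, ha'⟩ g => ⟨a ∘ ⇑(phi (π g.1.1))⁻¹, X.conj _ ha, by
    rw [show π g.1.1 = π' g.1.2 from g.2]; exact X'.conj _ ha'⟩⟩
  let πF : F ⧸ D →* Equiv.Perm (Fin 24) := QuotientGroup.lift D ((π.comp (MonoidHom.fst E E')).comp F.subtype)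
    fun p ⟨a, ha, _⟩ => X.ker ha
  have πF_mk : ∀ p : F, πF (QuotientGroup.mk p) = π p.1.1 := fun p => rfl
  have hFmem : ∀ v, ((ι v, 1) : E × E') ∈ F := fun v => by rw [memF, X.ker (hι v), map_one]
  let ιF : V → F ⧸ D := fun v => QuotientGroup.mk ⟨(ι v, 1), hFmem v⟩
  have hpart : ∀ x : E, ∃ x' : E', π x = π' x' := fun x => by
    have h : π x ∈ π'.range := by rw [S'.range_eq, ← S.range_eq]; exact ⟨x, rfl⟩
    obtain ⟨x', hx'⟩ := h
    exact ⟨x', hx'.symm⟩
  have hpart' : ∀ x' : E', ∃ x : E, π x = π' x' := fun x' => by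
    have h : π' x' ∈ π.range := by rw [S.range_eq, ← S'.range_eq]; exact ⟨x', rfl⟩
    exact h
  have hker : ∀ p : F, π p.1.1 = 1 → ∃ u v, p.1 = (ι u, ι' v) := fun p hp => by
    obtain ⟨u, hu⟩ := (S.mem_ker _).1 hp
    obtain ⟨v, hv⟩ := (S'.mem_ker _).1 (show π' p.1.2 = 1 by rw [← (memF p.1).1 p.2]; exact hp)
    exact ⟨u, v, Prod.ext hu.symm hv.symm⟩
  have SF : Setup d gens πF ιF := by
    refine ⟨?_, fun u v => ?_, fun u v h => ?_, fun q => ⟨fun hq => ?_, ?_⟩, fun q hq x hx v => ?_,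
      fun t ht x hx v => ?_⟩
    · refine le_antisymm ?_ fun σ hσ => ?_
      · rintro σ ⟨x, rfl⟩
        obtain ⟨p, rfl⟩ := QuotientGroup.mk_surjective x
        rw [πF_mk, ← S.range_eq]; exact ⟨_, rfl⟩
      · rw [← S.range_eq] at hσ
        obtain ⟨x, rfl⟩ := hσ
        obtain ⟨x', hx'⟩ := hpart x
        exact ⟨QuotientGroup.mk ⟨(x, x'), hx'⟩, rfl⟩
    · show QuotientGroup.mk _ = QuotientGroup.mk _ * QuotientGroup.mk _
      rw [← QuotientGroup.mk_mul]
      exact congrArg _ (Subtype.ext (Prod.ext (S.add u v) (one_mul _).symm))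
    · obtain ⟨a, ha, ha'⟩ := QuotientGroup.eq.1 h
      have ha1 : R' a 1 := by simpa using ha'
      have : (ι u)⁻¹ * ι v = 1 := X.uniq ha ((hsame a).2 ha1)
      exact S.inj (inv_mul_eq_one.1 this)
    · obtain ⟨p, rfl⟩ := QuotientGroup.mk_surjective q
      obtain ⟨u, v, hp⟩ := hker p (by rwa [πF_mk] at hq)
      refine ⟨u + v, QuotientGroup.eq.2 ?_⟩
      refine ⟨wordOf L v, ?_, ?_⟩
      · show R _ ((ι (u + v))⁻¹ * p.1.1)
        rw [hp, inv_eq_of_mul_eq_one_right (sq (hι (u + v))), ← S.add,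
          show u + v + u = v by rw [add_comm u v, add_assoc, add_self, add_zero]]
        exact hι v
      · show R' _ ((1 : E')⁻¹ * p.1.2)
        rw [hp, inv_one, one_mul]
        exact hι' v
    · rintro ⟨v, rfl⟩
      exact X.ker (hι v)
    · obtain ⟨p, rfl⟩ := QuotientGroup.mk_surjective x
      show QuotientGroup.mk _ * QuotientGroup.mk p = QuotientGroup.mk p * QuotientGroup.mk _
      rw [← QuotientGroup.mk_mul, ← QuotientGroup.mk_mul]
      exact congrArg _ (Subtype.ext (Prod.ext (S.conjA q hq p.1.1 hx v)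
        (show (1 : E') * p.1.2 = p.1.2 * 1 by rw [one_mul, mul_one])))
    · obtain ⟨p, rfl⟩ := QuotientGroup.mk_surjective x
      show QuotientGroup.mk p * QuotientGroup.mk _ * (QuotientGroup.mk p)⁻¹ = QuotientGroup.mk _
      rw [← QuotientGroup.mk_inv, ← QuotientGroup.mk_mul, ← QuotientGroup.mk_mul]
      exact congrArg _ (Subtype.ext (Prod.ext (S.conjF t ht p.1.1 hx v)
        (show p.1.2 * 1 * p.1.2⁻¹ = 1 by rw [mul_one, mul_inv_cancel])))
  let liftF : ℕ → F ⧸ D := fun q =>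
    if hq : q < d.a.length then QuotientGroup.mk ⟨(lift q, lift' q), (hl q hq).trans (hl' q hq).symm⟩ else 1
  have hlF : LiftOK d πF liftF := fun q hq => by
    simp only [liftF, dif_pos hq]; exact hl q hq
  have hval : ∀ u : List ℕ, (∀ q ∈ u, q < d.a.length) → ∃ h : (val lift u, val lift' u) ∈ F,
      val liftF u = QuotientGroup.mk ⟨_, h⟩ := by
    intro u
    induction u with
    | nil => intro _; exact ⟨F.one_mem, rfl⟩
    | cons q u ih =>
      intro hu
      obtain ⟨h, e⟩ := ih fun a ha => hu a (List.mem_cons_of_mem _ ha)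
      have hq := hu q List.mem_cons_self
      refine ⟨?_, ?_⟩
      · simp only [val_cons]
        exact F.mul_mem (x := (lift q, lift' q)) ((hl q hq).trans (hl' q hq).symm) h
      · rw [val_cons, e]
        simp only [liftF, dif_pos hq, ← QuotientGroup.mk_mul]
        exact congrArg _ (Subtype.ext (Prod.ext (val_cons _ _ _).symm (val_cons _ _ _).symm))
  obtain ⟨-, -, -, hL, -⟩ := base_facts hb
  have hrF : RuleOK d ιF liftF fun _ => 0 := fun q hq => by
    obtain ⟨h1, e1⟩ := hval _ (hL q hq).1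
    obtain ⟨h2, e2⟩ := hval _ (hL q hq).2
    rw [SF.zero, mul_one, e1, e2]
    refine QuotientGroup.eq.2 ⟨wordOf L (z q), ?_, ?_⟩
    · show R _ ((val lift _)⁻¹ * val lift _)
      rw [hr q hq, mul_inv_rev, mul_assoc, inv_mul_cancel, mul_one, inv_eq_of_mul_eq_one_right (sq (hι _))]
      exact hι _
    · show R' _ ((val lift' _)⁻¹ * val lift' _)
      rw [hr' q hq, mul_inv_rev, mul_assoc, inv_mul_cancel, mul_one, inv_eq_of_mul_eq_one_right (sq' (hι' _))]
      exact hι' _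
  obtain ⟨H, hH⟩ := exists_complement SF hc hb hs hodd hlF hrF
  let Ht : Subgroup F := H.comap (QuotientGroup.mk' D)
  have hDH : D ≤ Ht := fun p hp => by
    show QuotientGroup.mk p ∈ H
    rw [(QuotientGroup.eq_one_iff p).2 hp]; exact H.one_mem
  have htriv : ∀ p ∈ Ht, π p.1.1 = 1 → p ∈ D := fun p hp h1 => by
    have := hH.disjoint.le_bot (show QuotientGroup.mk p ∈ πF.ker ⊓ H from ⟨h1, hp⟩)
    exact (QuotientGroup.eq_one_iff p).1 this
  let f₁ : Ht →* E := ((MonoidHom.fst E E').comp F.subtype).comp Ht.subtype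
  let f₂ : Ht →* E' := ((MonoidHom.snd E E').comp F.subtype).comp Ht.subtype
  have hex : ∀ p : F, ∃ u, ∃ m ∈ Ht, p.1 = (ι u * m.1.1, m.1.2) := fun p => by
    obtain ⟨⟨⟨k, hk⟩, ⟨h, hh⟩⟩, he⟩ := hH.2 (QuotientGroup.mk p)
    obtain ⟨u, rfl⟩ := (SF.mem_ker k).1 hk
    refine ⟨u, ⟨(ι u, 1), hFmem u⟩⁻¹ * p, ?_, ?_⟩
    · show QuotientGroup.mk _ ∈ H
      rw [QuotientGroup.mk_mul, QuotientGroup.mk_inv, ← he, inv_mul_cancel_left]
      exact hh
    · exact Prod.ext (mul_inv_cancel_left _ _).symm (by simp)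
  have hb1 : Function.Bijective f₁ := by
    refine ⟨(injective_iff_map_eq_one f₁).2 fun p hp => ?_, fun x => ?_⟩
    · have hp1 : p.1.1.1 = 1 := hp
      obtain ⟨a, ha, ha'⟩ := htriv p.1 p.2 (by rw [hp1, map_one])
      rw [hp1] at ha
      exact Subtype.ext (Subtype.ext (Prod.ext hp1 (X'.uniq ha' ((hsame a).1 ha))))
    · obtain ⟨x', hx'⟩ := hpart x
      obtain ⟨u, m, hm, he⟩ := hex ⟨(x, x'), hx'⟩
      exact ⟨⟨_, Ht.mul_mem (hDH (hD u)) hm⟩, (congrArg Prod.fst he).symm⟩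
  have hb2 : Function.Bijective f₂ := by
    refine ⟨(injective_iff_map_eq_one f₂).2 fun p hp => ?_, fun x' => ?_⟩
    · have hp2 : p.1.1.2 = 1 := hp
      obtain ⟨a, ha, ha'⟩ := htriv p.1 p.2 (by rw [(memF p.1.1).1 p.1.2, hp2, map_one])
      rw [hp2] at ha'
      exact Subtype.ext (Subtype.ext (Prod.ext (X.uniq ha ((hsame a).2 ha')) hp2))
    · obtain ⟨x, hx⟩ := hpart' x'
      obtain ⟨u, m, hm, he⟩ := hex ⟨(x, x'), hx⟩
      exact ⟨⟨m, hm⟩, (congrArg Prod.snd he).symm⟩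
  exact ⟨(MulEquiv.ofBijective f₁ hb1).symm.trans (MulEquiv.ofBijective f₂ hb2)⟩

end Cfsg.Agent.ExtM23
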