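import Cfsg.Agent.Lib.ExtM23.Defs
import Mathlib.Data.ZMod.Basic
import Mathlib.Algebra.BigOperators.Fin

/-! Evaluation of packed vectors of linear forms. -/

set_option autoImplicit false

namespace Cfsg.Agent.ExtM23

open Cfsg.Agent.PermCert

/-- The module. -/
abbrev V : Type := Fin dim → ZMod 2

theorem two_eq (u v : V) : u + v = 0 → u = v := fun h => by
  funext i
  exact (by decide : ∀ a b : ZMod 2, a + b = 0 → a = b) _ _ (congrFun h i)

theorem add_self (u : V) : u + u = 0 := funext fun i => (by decide : ∀ a : ZMod 2, a + a = 0) (u i)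

/-- A form at an assignment. -/
def bitv (τ : ℕ → ZMod 2) (m : ℕ) : ZMod 2 := ∑ k ∈ Finset.range wid, if m.testBit k then τ k else 0

/-- A vector of forms at an assignment. -/
def ev (τ : ℕ → ZMod 2) (a : ℕ) : V := fun i => bitv τ (get wid a i)

/-- A matrix applied to a vector. -/
def mulM (M : List ℕ) (v : V) : V := fun i => ∑ r : Fin dim, if (M.getD i 0).testBit r then v r else 0

theorem testBit_get (w a i k : ℕ) : (get w a i).testBit k = (decide (k < w) && a.testBit (w * i + k)) := by
  rw [PermCert.get, Nat.testBit_mod_two_pow, Nat.testBit_shiftRight]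

theorem get_xor (w a b i : ℕ) : get w (a ^^^ b) i = get w a i ^^^ get w b i :=
  Nat.eq_of_testBit_eq fun k => by
    simp only [testBit_get, Nat.testBit_xor]
    cases decide (k < w) <;> simp

theorem get_zero (w i : ℕ) : get w 0 i = 0 := by simp [PermCert.get]

theorem get_shift {w x : ℕ} (hx : x < 2 ^ w) (i j : ℕ) :
    get w (x <<< (w * j)) i = if i = j then x else 0 :=
  Nat.eq_of_testBit_eq fun k => by
    rw [testBit_get, Nat.testBit_shiftLeft]
    by_cases hk : k < w
    · rcases lt_trichotomy i j with h | rfl | h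
      · have h2 : w * i + w ≤ w * j := by
          rw [← Nat.mul_succ]; exact Nat.mul_le_mul_left w h
        simp [hk, h.ne, show ¬ w * j ≤ w * i + k by omega]
      · simp [hk]
      · have h2 : w * j + w ≤ w * i := by
          rw [← Nat.mul_succ]; exact Nat.mul_le_mul_left w h
        have h3 : x.testBit (w * i + k - w * j) = false :=
          Nat.testBit_lt_two_pow (lt_of_lt_of_le hx (Nat.pow_le_pow_right two_pos (by omega)))
        simp [hk, h.ne', h3]
    · have h3 : x.testBit k = false :=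
        Nat.testBit_lt_two_pow (lt_of_lt_of_le hx (Nat.pow_le_pow_right two_pos (by omega)))
      simp only [decide_eq_false hk, Bool.false_and]
      split <;> simp [h3]

variable (τ : ℕ → ZMod 2)

theorem bitv_zero : bitv τ 0 = 0 := by simp [bitv]

theorem bitv_xor (a b : ℕ) : bitv τ (a ^^^ b) = bitv τ a + bitv τ b := by
  unfold bitv
  rw [← Finset.sum_add_distrib]
  refine Finset.sum_congr rfl fun k _ => ?_
  rw [Nat.testBit_xor]
  cases a.testBit k <;> cases b.testBit k <;> simp [(by decide : ∀ x : ZMod 2, x + x = 0)]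

theorem bitv_single {k : ℕ} (hk : k < wid) : bitv τ (1 <<< k) = τ k := by
  unfold bitv
  rw [Nat.one_shiftLeft, Finset.sum_eq_single_of_mem k (Finset.mem_range.2 hk)]
  · simp [Nat.testBit_two_pow_self]
  · intro j _ hj
    rw [Nat.testBit_two_pow_of_ne (Ne.symm hj)]; simp

theorem ev_zero : ev τ 0 = 0 := funext fun i => by simp [ev, get_zero, bitv_zero]

theorem ev_xor (a b : ℕ) : ev τ (a ^^^ b) = ev τ a + ev τ b :=
  funext fun i => by simp [ev, get_xor, bitv_xor]

theorem bitv_xorTo (f : ℕ → ℕ) : ∀ n, bitv τ (xorTo f n) = ∑ r ∈ Finset.range n, bitv τ (f r)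
  | 0 => by simp [xorTo, bitv_zero]
  | n + 1 => by rw [xorTo, bitv_xor, bitv_xorTo f n, Finset.sum_range_succ]

theorem get_xorTo (w i : ℕ) (f : ℕ → ℕ) : ∀ n, get w (xorTo f n) i = xorTo (fun j => get w (f j) i) n
  | 0 => get_zero w i
  | n + 1 => by rw [xorTo, get_xor, get_xorTo w i f n]; rfl

theorem xorTo_lt {f : ℕ → ℕ} {w : ℕ} (h : ∀ r, f r < 2 ^ w) : ∀ n, xorTo f n < 2 ^ w
  | 0 => Nat.two_pow_pos w
  | n + 1 => Nat.xor_lt_two_pow (xorTo_lt h n) (h n)

theorem bitv_get_block {f : ℕ → ℕ} (h : ∀ r, f r < 2 ^ wid) (i : Fin dim) :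
    bitv τ (get wid (xorTo (fun j => f j <<< (wid * j)) dim) i) = bitv τ (f i) := by
  rw [get_xorTo, bitv_xorTo, Finset.sum_eq_single_of_mem (i : ℕ) (Finset.mem_range.2 i.2)]
  · rw [get_shift (h i), if_pos rfl]
  · intro j _ hj
    rw [get_shift (h j), if_neg (Ne.symm hj), bitv_zero]

theorem get_lt' (w a i : ℕ) : get w a i < 2 ^ w := Nat.mod_lt _ (Nat.two_pow_pos w)

theorem ev_act (M : List ℕ) (a : ℕ) : ev τ (act M a) = mulM M (ev τ a) := by
  funext i
  rw [ev, act, bitv_get_block, bitv_xorTo, mulM, Finset.sum_range]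
  · refine Finset.sum_congr rfl fun r _ => ?_
    cases (M.getD (i : ℕ) 0).testBit (r : ℕ)
    · simp [bitv_zero]
    · simp [ev]
  · intro j
    refine xorTo_lt (fun r => ?_) dim
    cases (M.getD j 0).testBit r
    · exact Nat.two_pow_pos wid
    · exact get_lt' wid a r

theorem ev_varV {q : ℕ} (hq : (q + 1) * dim ≤ wid) : ev τ (varV q) = fun i : Fin dim => τ (q * dim + i) := by
  funext i
  have hk : ∀ r < dim, q * dim + r < wid := fun r hr => by rw [Nat.succ_mul] at hq; omega
  rw [ev, varV, get_xorTo, bitv_xorTo, Finset.sum_eq_single_of_mem (i : ℕ) (Finset.mem_range.2 i.2)]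
  · rw [get_shift (by rw [Nat.one_shiftLeft]; exact Nat.pow_lt_pow_right (by norm_num) (hk i i.2)), if_pos rfl,
      bitv_single τ (hk i i.2)]
  · intro j hj hne
    have hb : 1 <<< (q * dim + j) < 2 ^ wid := by
      rw [Nat.one_shiftLeft]
      exact Nat.pow_lt_pow_right (by norm_num) (hk j (Finset.mem_range.1 hj))
    rw [get_shift hb, if_neg (Ne.symm hne), bitv_zero]

theorem mulM_zero (M : List ℕ) : mulM M 0 = 0 := funext fun i => by simp [mulM]

theorem mulM_add (M : List ℕ) (u v : V) : mulM M (u + v) = mulM M u + mulM M v :=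
  funext fun i => by
    simp only [mulM, Pi.add_apply, ← Finset.sum_add_distrib]
    exact Finset.sum_congr rfl fun r _ => by split <;> simp

end Cfsg.Agent.ExtM23
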