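import Cfsg.Agent.Lib.ExtM23.Linear
import Cfsg.Agent.Lib.Compute.SchurSpec
import Cfsg.Agent.Lib.Solvable.Gaschutz

/-! Soundness of the checks: corrected lifts, and complements from exact rules. -/

set_option autoImplicit false
set_option maxHeartbeats 1000000

namespace Cfsg.Agent.ExtM23

open Cfsg.Agent.PermCert Cfsg.Agent.PermSchur
open scoped IsMulCommutative

variable {E : Type*} [Group E]

/-- An extension with the actions prescribed by the data. -/
structure Setup (d : Data) (gens : List Elt) (π : E →* Equiv.Perm (Fin 24)) (ι : V → E) : Prop where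
  range_eq : π.range = genGroup 5 24 gens
  add : ∀ u v, ι (u + v) = ι u * ι v
  inj : Function.Injective ι
  mem_ker : ∀ x, π x = 1 ↔ ∃ v, ι v = x
  conjA : ∀ q < d.a.length, ∀ x, π x = toPerm 5 24 (d.a.getD q (0, 0)) →
    ∀ v, ι v * x = x * ι (mulM (d.mats.getD q []) v)
  conjF : ∀ t < d.fus.length, ∀ x, π x = toPerm 5 24 (d.fus.getD t ((0, 0), [])).1 →
    ∀ v, x * ι v * x⁻¹ = ι (mulM (d.fus.getD t ((0, 0), [])).2 v)

variable {d : Data} {gens : List Elt} {π : E →* Equiv.Perm (Fin 24)} {ι : V → E} (S : Setup d gens π ι)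

include S in
theorem Setup.zero : ι 0 = 1 := by
  have h := S.add 0 0
  rw [add_zero] at h
  exact left_eq_mul.1 h

/-- The vector applied along a word. -/
def mulW (d : Data) : List ℕ → V → V
  | [], v => v
  | q :: r, v => mulW d r (mulM (d.mats.getD q []) v)

theorem ev_actW (τ : ℕ → ZMod 2) : ∀ (r : List ℕ) (a : ℕ), ev τ (actW d r a) = mulW d r (ev τ a)
  | [], a => rfl
  | q :: r, a => by
    show ev τ (actW d r (act _ a)) = _
    rw [ev_actW τ r, ev_act, mulW]

variable {lift : ℕ → E}

/-- The lifts lie over the sequence. -/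
def LiftOK (d : Data) (π : E →* Equiv.Perm (Fin 24)) (lift : ℕ → E) : Prop :=
  ∀ q < d.a.length, π (lift q) = toPerm 5 24 (d.a.getD q (0, 0))

include S in
theorem conjW (hl : LiftOK d π lift) : ∀ (r : List ℕ), (∀ q ∈ r, q < d.a.length) → ∀ v,
    ι v * val lift r = val lift r * ι (mulW d r v)
  | [], _, v => by simp [val, mulW]
  | q :: r, hr, v => by
    rw [val_cons, ← mul_assoc, S.conjA q (hr q List.mem_cons_self) _ (hl q (hr q List.mem_cons_self)), mul_assoc,
      conjW hl r fun a ha => hr a (List.mem_cons_of_mem _ ha), ← mul_assoc]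
    rfl

theorem findRule_spec : ∀ (rs : List (List ℕ × List ℕ)) (u : List ℕ) (q : ℕ), findRule rs u = some q →
    q < rs.length ∧ (rs.getD q ([], [])).1 = u
  | [], u, q, h => by simp [findRule] at h
  | r :: rs, u, q, h => by
    rw [findRule] at h
    split at h
    · obtain rfl : 0 = q := Option.some.inj h
      exact ⟨Nat.succ_pos _, by simpa using ‹(r.1 == u) = true›⟩
    · obtain ⟨k, hk, rfl⟩ := Option.map_eq_some_iff.1 h
      obtain ⟨h1, h2⟩ := findRule_spec rs u k hk
      exact ⟨Nat.succ_lt_succ h1, by simpa using h2⟩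

theorem stepW_spec : ∀ (u v : List ℕ) (q : ℕ) (r : List ℕ), stepW d u = some (v, q, r) →
    q < d.rules.length ∧ ∃ pre, u = pre ++ (d.rules.getD q ([], [])).1 ++ r ∧
      v = pre ++ (d.rules.getD q ([], [])).2 ++ r
  | [], v, q, r, h => by simp [stepW] at h
  | [x], v, q, r, h => by simp [stepW] at h
  | x :: y :: rest, v, q, r, h => by
    rw [stepW] at h
    split at h
    · rename_i q' hq'
      obtain ⟨h1, h2⟩ := findRule_spec _ _ _ hq'
      obtain ⟨rfl, rfl, rfl⟩ : _ ∧ q' = q ∧ rest = r := by simpa [Prod.ext_iff] using h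
      exact ⟨h1, [], by rw [h2]; rfl, rfl⟩
    · split at h
      · rename_i v' q' r' hs
        obtain ⟨h1, pre, h2, h3⟩ := stepW_spec (y :: rest) v' q' r' hs
        obtain ⟨rfl, rfl, rfl⟩ : _ ∧ q' = q ∧ r' = r := by simpa [Prod.ext_iff] using h
        exact ⟨h1, x :: pre, by rw [h2]; rfl, by rw [h3]; rfl⟩
      · simp at h

/-- The rules hold with the given vectors. -/
def RuleOK (d : Data) (ι : V → E) (lift : ℕ → E) (t : ℕ → V) : Prop :=
  ∀ q < d.rules.length, val lift (d.rules.getD q ([], [])).1 = val lift (d.rules.getD q ([], [])).2 * ι (t q)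

/-- The rules stay inside the letters. -/
def LettersOK (d : Data) : Prop :=
  ∀ q < d.rules.length, (∀ a ∈ (d.rules.getD q ([], [])).1, a < d.a.length) ∧
    ∀ a ∈ (d.rules.getD q ([], [])).2, a < d.a.length

include S in
theorem step_val (hl : LiftOK d π lift) (hL : LettersOK d) {t : ℕ → V} (hr : RuleOK d ι lift t)
    {u v : List ℕ} {q : ℕ} {r : List ℕ} (hu : ∀ a ∈ u, a < d.a.length) (h : stepW d u = some (v, q, r)) :
    q < d.rules.length ∧ (∀ a ∈ v, a < d.a.length) ∧ val lift u = val lift v * ι (mulW d r (t q)) := by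
  obtain ⟨hq, pre, rfl, rfl⟩ := stepW_spec u v q r h
  refine ⟨hq, fun a ha => ?_, ?_⟩
  · simp only [List.mem_append] at ha hu
    rcases ha with (ha | ha) | ha
    exacts [hu a (Or.inl (Or.inl ha)), (hL q hq).2 a ha, hu a (Or.inr ha)]
  · rw [val_append, val_append, val_append, val_append, hr q hq]
    simp only [mul_assoc]
    rw [conjW S hl r fun a ha => hu a (List.mem_append_right _ ha)]

/-- Tails as the values of the unknowns. -/
def tv (τ : ℕ → ZMod 2) (q : ℕ) : V := fun i => τ (q * dim + i)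

variable {τ : ℕ → ZMod 2}

include S in
theorem collW_val (hl : LiftOK d π lift) (hL : LettersOK d) (hr : RuleOK d ι lift (tv τ))
    (hw : (d.rules.length) * dim ≤ wid) : ∀ (fuel : ℕ) (u : List ℕ) (a : ℕ), (∀ x ∈ u, x < d.a.length) →
      (∀ x ∈ (collW d fuel u a).1, x < d.a.length) ∧
        val lift u * ι (ev τ a) = val lift (collW d fuel u a).1 * ι (ev τ (collW d fuel u a).2)
  | 0, u, a, hu => ⟨hu, rfl⟩
  | fuel + 1, u, a, hu => by
    rw [collW]
    split
    · exact ⟨hu, rfl⟩
    · rename_i v q r hs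
      obtain ⟨hq, hv, he⟩ := step_val S hl hL hr hu hs
      obtain ⟨h1, h2⟩ := collW_val hl hL hr hw fuel v (a ^^^ actW d r (varV q)) hv
      refine ⟨h1, ?_⟩
      rw [← h2, he, mul_assoc, ← S.add, ev_xor, ev_actW,
        ev_varV τ ((Nat.mul_le_mul_right dim hq).trans hw), add_comm]
      rfl

include S in
theorem collW_exact (hl : LiftOK d π lift) (hL : LettersOK d) (hr : RuleOK d ι lift (fun _ => 0)) :
    ∀ (fuel : ℕ) (u : List ℕ) (a : ℕ), (∀ x ∈ u, x < d.a.length) →
      val lift u = val lift (collW d fuel u a).1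
  | 0, u, a, hu => rfl
  | fuel + 1, u, a, hu => by
    rw [collW]
    split
    · rfl
    · rename_i v q r hs
      obtain ⟨hq, hv, he⟩ := step_val S hl hL hr hu hs
      have h0 : mulW d r (0 : V) = 0 := by
        clear hs he hv
        induction r with
        | nil => rfl
        | cons q r ih => rw [mulW, mulM_zero, ih]
      rw [he, h0, S.zero, mul_one]
      exact collW_exact hl hL hr fuel v _ hv

include S in
theorem val_dW (hl : LiftOK d π lift) : ∀ (u : List ℕ), (∀ x ∈ u, x < d.a.length) →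
    val (fun q => lift q * ι (ev τ (d.delta.getD q 0))) u = val lift u * ι (ev τ (dW d u))
  | [], _ => by simp [val, dW, ev_zero, S.zero]
  | q :: r, hr => by
    have hr' : ∀ a ∈ r, a < d.a.length := fun a ha => hr a (List.mem_cons_of_mem _ ha)
    rw [val_cons, val_cons, val_dW hl r hr', dW, ev_xor, ev_actW, S.add]
    simp only [mul_assoc]
    rw [← mul_assoc (ι (ev τ (d.delta.getD q 0))), conjW S hl r hr', mul_assoc]

/-- The word map of a coded sequence. -/
theorem perm_val {lift : ℕ → E} (hl : LiftOK d π lift) (hv : ∀ e ∈ d.a, validElt 5 24 e = true) (u : List ℕ)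
    (hu : ∀ q ∈ u, q < d.a.length) (i : Fin 24) :
    appC 5 (u.map fun i => (d.a.getD i (0, 0)).1) i = (π (val lift u) i : ℕ) := by
  induction u with
  | nil => simp [appC, val]
  | cons q u ih =>
    have hq := hu q List.mem_cons_self
    have hmem : d.a.getD q (0, 0) ∈ d.a := by
      rw [List.getD_eq_getElem _ _ hq]; exact List.getElem_mem hq
    rw [val_cons, map_mul, Equiv.Perm.mul_apply, hl q hq, ← ((rep_toPerm (hv _ hmem)) (π (val lift u) i)).1,
      ← ih fun a ha => hu a (List.mem_cons_of_mem _ ha)]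
    rfl

variable {levels : List CLevel} {derived : List (Elt × List ℕ)} (hc : checkCert 5 24 gens derived levels = true)
  (hb : baseOK d levels = true)

include hb in
theorem base_facts :
    checkCert 5 24 d.a d.derived d.levels = true ∧ (∀ e ∈ d.a, validElt 5 24 e = true) ∧
    (∀ e ∈ d.a, sift 5 24 levels e.1 = true) ∧ LettersOK d ∧ (d.rules.length + d.pairs.length) * dim ≤ wid := by
  simp only [baseOK, Bool.and_eq_true, List.all_eq_true, Nat.ble_eq, letters, Nat.blt_eq] at hb
  obtain ⟨⟨⟨⟨⟨h1, h2⟩, h3⟩, -⟩, -⟩, h6⟩ := hb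
  have h1' := h1
  simp only [checkCert, Bool.and_eq_true, List.all_eq_true] at h1'
  refine ⟨h1, h1'.1.1.1.1.2, h2, fun q hq => ?_, h6⟩
  have := h3 _ (List.getElem_mem hq)
  rw [List.getD_eq_getElem _ _ hq]
  exact ⟨this.1.1, this.1.2⟩

include S hc in
theorem exists_over {e : Elt} (hv : validElt 5 24 e = true) (hs : sift 5 24 levels e.1 = true) :
    ∃ x : E, π x = toPerm 5 24 e :=
  MonoidHom.mem_range.1 (S.range_eq ▸ cert_mem hc hv hs)

include S hb in
theorem rule_tail (hl : LiftOK d π lift) {q : ℕ} (hq : q < d.rules.length) :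
    ∃ t : V, val lift (d.rules.getD q ([], [])).1 = val lift (d.rules.getD q ([], [])).2 * ι t := by
  obtain ⟨-, hval, -, hL, -⟩ := base_facts hb
  simp only [baseOK, Bool.and_eq_true, List.all_eq_true] at hb
  have h := (hb.1.1.1.2 _ (List.getElem_mem hq)).2
  rw [← List.getD_eq_getElem _ ([], []) hq] at h
  have he : π (val lift (d.rules.getD q ([], [])).1) = π (val lift (d.rules.getD q ([], [])).2) :=
    (sameC_eq (perm_val hl hval _ (hL q hq).1) (perm_val hl hval _ (hL q hq).2)).1 h
  obtain ⟨t, ht⟩ := (S.mem_ker _).1 (show π ((val lift (d.rules.getD q ([], [])).2)⁻¹ *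
    val lift (d.rules.getD q ([], [])).1) = 1 by rw [map_mul, map_inv, he, inv_mul_cancel])
  exact ⟨t, by rw [ht, mul_inv_cancel_left]⟩

include S hb in
theorem pair_tail (hl : LiftOK d π lift) {p : ℕ} (hp : p < d.pairs.length) {x : E}
    (hx : π x = toPerm 5 24 (d.fus.getD (d.pairs.getD p (0, [], [])).1 ((0, 0), [])).1) :
    ∃ t : V, x * val lift (d.pairs.getD p (0, [], [])).2.1 * x⁻¹ =
      val lift (d.pairs.getD p (0, [], [])).2.2 * ι t := by
  obtain ⟨-, hval, -, -, -⟩ := base_facts hb
  simp only [baseOK, Bool.and_eq_true, List.all_eq_true, Nat.blt_eq, letters] at hb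
  obtain ⟨⟨⟨-, hF⟩, hP⟩, -⟩ := hb
  obtain ⟨⟨⟨ht, hs1⟩, hs2⟩, h⟩ := hP _ (List.getElem_mem hp)
  rw [List.getD_eq_getElem _ _ hp] at hx ⊢
  set P := d.pairs[p]
  have hFv : validElt 5 24 (d.fus.getD P.1 ((0, 0), [])).1 = true := by
    rw [List.getD_eq_getElem _ _ ht]; exact (hF _ (List.getElem_mem ht)).1
  have hg : ∀ i : Fin 24, get 5 (d.fus.getD P.1 ((0, 0), [])).1.1 i = (π x i : ℕ) := fun i => by
    rw [hx]; exact ((rep_toPerm hFv) i).1
  have hA : ∀ i : Fin 24, appC 5 ((d.fus.getD P.1 ((0, 0), [])).1.1 ::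
      P.2.1.map fun i => (d.a.getD i (0, 0)).1) i = ((π (x * val lift P.2.1)) i : ℕ) := fun i => by
    rw [map_mul, Equiv.Perm.mul_apply, ← hg, ← perm_val hl hval _ hs1]
    rfl
  have hB : ∀ i : Fin 24, appC 5 ((P.2.2.map fun i => (d.a.getD i (0, 0)).1) ++
      [(d.fus.getD P.1 ((0, 0), [])).1.1]) i = ((π (val lift P.2.2 * x)) i : ℕ) := fun i => by
    rw [map_mul, Equiv.Perm.mul_apply, ← perm_val hl hval _ hs2, ← hg]
    simp [appC, List.foldr_append]
  have he := (sameC_eq hA hB).1 h
  obtain ⟨t, ht⟩ := (S.mem_ker _).1 (show π ((val lift P.2.2)⁻¹ * (x * val lift P.2.1 * x⁻¹)) = 1 by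
    rw [map_mul, map_inv, map_mul, he, map_inv, map_mul]; group)
  exact ⟨t, by rw [ht, mul_inv_cancel_left]⟩

include hb in
theorem norm_letters (hl : LiftOK d π lift) (hr : RuleOK d ι lift (tv τ)) (S : Setup d gens π ι) (u : List ℕ)
    (a : ℕ) (hu : ∀ x ∈ u, x < d.a.length) :
    (∀ x ∈ (norm d u a).1, x < d.a.length) ∧
      val lift u * ι (ev τ a) = val lift (norm d u a).1 * ι (ev τ (norm d u a).2) := by
  obtain ⟨-, -, -, hL, hw⟩ := base_facts hb
  exact collW_val S hl hL hr ((Nat.mul_le_mul_right dim (Nat.le_add_right _ _)).trans hw) 10000 u a hu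

include hb in
theorem pair_letters {p : ℕ} (hp : p < d.pairs.length) :
    (∀ x ∈ (d.pairs.getD p (0, [], [])).2.1, x < d.a.length) ∧
      ∀ x ∈ (d.pairs.getD p (0, [], [])).2.2, x < d.a.length := by
  simp only [baseOK, Bool.and_eq_true, List.all_eq_true, Nat.blt_eq, letters] at hb
  rw [List.getD_eq_getElem _ _ hp]
  exact ⟨(hb.1.2 _ (List.getElem_mem hp)).1.1.2, (hb.1.2 _ (List.getElem_mem hp)).1.2⟩

include hb in
theorem products_letters {f : List ℕ} (hf : ∀ p ∈ f, p < d.pairs.length) :
    (∀ x ∈ srcs d f, x < d.a.length) ∧ ∀ x ∈ imgs d f, x < d.a.length := by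
  constructor <;> intro x hx <;> simp only [srcs, imgs, List.mem_flatMap] at hx <;>
    obtain ⟨p, hp, hx⟩ := hx
  · exact (pair_letters hb (hf p hp)).1 x hx
  · exact (pair_letters hb (hf p hp)).2 x hx

include hb in
theorem conj_product (hl : LiftOK d π lift) (S : Setup d gens π ι) {t : ℕ} {x : E}
    (hpair : ∀ p < d.pairs.length, (d.pairs.getD p (0, [], [])).1 = t →
      x * val lift (d.pairs.getD p (0, [], [])).2.1 * x⁻¹ =
        val lift (d.pairs.getD p (0, [], [])).2.2 * ι (tv τ (d.rules.length + p))) :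
    ∀ f : List ℕ, (∀ p ∈ f, p < d.pairs.length ∧ (d.pairs.getD p (0, [], [])).1 = t) →
      x * val lift (srcs d f) * x⁻¹ = val lift (imgs d f) * ι (ev τ (tails d f))
  | [], _ => by simp [srcs, imgs, tails, val, ev_zero, S.zero]
  | p :: f, hf => by
    obtain ⟨hp, hpt⟩ := hf p List.mem_cons_self
    have hf' : ∀ q ∈ f, q < d.pairs.length ∧ (d.pairs.getD q (0, [], [])).1 = t :=
      fun q hq => hf q (List.mem_cons_of_mem _ hq)
    have hw := (base_facts hb).2.2.2.2
    rw [show srcs d (p :: f) = (d.pairs.getD p (0, [], [])).2.1 ++ srcs d f from rfl,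
      show imgs d (p :: f) = (d.pairs.getD p (0, [], [])).2.2 ++ imgs d f from rfl, tails, val_append,
      val_append, ev_xor, ev_actW, ev_varV τ ((Nat.mul_le_mul_right dim (by omega)).trans hw),
      show x * (val lift (d.pairs.getD p (0, [], [])).2.1 * val lift (srcs d f)) * x⁻¹ =
        (x * val lift (d.pairs.getD p (0, [], [])).2.1 * x⁻¹) * (x * val lift (srcs d f) * x⁻¹) by group,
      hpair p hp hpt, conj_product hl S hpair f hf', S.add]
    simp only [mul_assoc]
    rw [← mul_assoc (ι (tv τ (d.rules.length + p))), conjW S hl _ (products_letters hb fun q hq => (hf' q hq).1).2,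
      mul_assoc]
    rfl

include hb in
theorem rel_zero (hl : LiftOK d π lift) (S : Setup d gens π ι) (hr : RuleOK d ι lift (tv τ)) {gl : ℕ → E}
    (hgl : ∀ t < d.fus.length, π (gl t) = toPerm 5 24 (d.fus.getD t ((0, 0), [])).1)
    (hpair : ∀ p < d.pairs.length, gl (d.pairs.getD p (0, [], [])).1 * val lift (d.pairs.getD p (0, [], [])).2.1 *
      (gl (d.pairs.getD p (0, [], [])).1)⁻¹ =
        val lift (d.pairs.getD p (0, [], [])).2.2 * ι (tv τ (d.rules.length + p)))
    {R : Rel} (hok : (relVal d R).1 = true)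
    (hlet : relLetters d R = true) :
    ev τ (relVal d R).2 = 0 := by
  cases R with
  | assoc x y z =>
    simp only [relLetters, letters, List.all_eq_true, Nat.blt_eq] at hlet
    simp only [relVal, beq_iff_eq] at hok ⊢
    obtain ⟨hA, eA⟩ := norm_letters hb hl hr S [x, y, z] 0 hlet
    obtain ⟨hB, eB⟩ := norm_letters hb hl hr S [y, z] 0 fun a ha => hlet a (List.mem_cons_of_mem _ ha)
    obtain ⟨hC, eC⟩ := norm_letters hb hl hr S (x :: (norm d [y, z] 0).1) (norm d [y, z] 0).2 (fun a ha => by
      rcases List.mem_cons.1 ha with rfl | ha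
      · exact hlet _ List.mem_cons_self
      · exact hB a ha)
    rw [ev_zero, S.zero, mul_one] at eA eB
    rw [val_cons, mul_assoc, ← eB, ← val_cons, eA, hok] at eC
    rw [ev_xor, S.inj (mul_left_cancel eC), add_self]
  | fuse t f g =>
    simp only [relVal, Bool.and_eq_true, beq_iff_eq, List.all_eq_true, Nat.blt_eq, Nat.beq_eq,
      List.mem_append] at hok ⊢
    obtain ⟨⟨⟨hfg, ht⟩, hA⟩, hB⟩ := hok
    have key : ∀ f : List ℕ, (∀ p ∈ f, p < d.pairs.length ∧ (d.pairs.getD p (0, [], [])).1 = t) →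
        gl t * val lift (norm d (srcs d f) 0).1 * (gl t)⁻¹ = val lift (norm d (imgs d f) (tails d f)).1 *
          ι (ev τ ((norm d (imgs d f) (tails d f)).2 ^^^
            act (d.fus.getD t ((0, 0), [])).2 (norm d (srcs d f) 0).2)) := by
      intro f hf
      obtain ⟨hs, hi⟩ := products_letters hb fun q hq => (hf q hq).1
      obtain ⟨-, eA⟩ := norm_letters hb hl hr S (srcs d f) 0 hs
      obtain ⟨-, eB⟩ := norm_letters hb hl hr S (imgs d f) (tails d f) hi
      have h := conj_product hb hl S (t := t) (x := gl t) (τ := τ)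
        (fun p hp hpt => by rw [← hpt]; exact hpair p hp) f hf
      rw [eB] at h
      rw [ev_zero, S.zero, mul_one] at eA
      rw [eA, show gl t * (val lift (norm d (srcs d f) 0).1 * ι (ev τ (norm d (srcs d f) 0).2)) * (gl t)⁻¹ =
        (gl t * val lift (norm d (srcs d f) 0).1 * (gl t)⁻¹) * (gl t * ι (ev τ (norm d (srcs d f) 0).2) *
          (gl t)⁻¹) by group, S.conjF t ht _ (hgl t ht)] at h
      rw [ev_xor, S.add, ← mul_assoc, ← h, ev_act, mul_assoc _ (ι _) (ι _), ← S.add, add_self, S.zero, mul_one]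
    have e := key f fun p hp => hfg p (Or.inl hp)
    rw [hA, key g fun p hp => hfg p (Or.inr hp), hB] at e
    rw [ev_xor, S.inj (mul_left_cancel e), add_self]

/-- The exceptional class. -/
def zV (d : Data) (q : ℕ) : V := fun r => if (d.z.getD q 0).testBit r then 1 else 0

include S hc hb in
/-- Some lifts satisfy the rules up to a multiple of the exceptional class. -/
theorem exists_lifts (he : eqsOK d = true) (hk : combosOK d = true) (hlam : d.lam < 2 ^ wid) :
    ∃ (c : ZMod 2) (lift : ℕ → E), LiftOK d π lift ∧ RuleOK d ι lift (fun q => c • zV d q) := by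
  classical
  obtain ⟨-, hval, hsift, hL, hw⟩ := base_facts hb
  have hb' := hb
  simp only [baseOK, Bool.and_eq_true, List.all_eq_true] at hb'
  have hex : ∀ q, ∃ x : E, q < d.a.length → π x = toPerm 5 24 (d.a.getD q (0, 0)) := fun q => by
    by_cases hq : q < d.a.length
    · have hm : d.a.getD q (0, 0) ∈ d.a := by rw [List.getD_eq_getElem _ _ hq]; exact List.getElem_mem hq
      obtain ⟨x, hx⟩ := exists_over S hc (hval _ hm) (hsift _ hm)
      exact ⟨x, fun _ => hx⟩
    · exact ⟨1, fun h => absurd h hq⟩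
  choose lift hlift using hex
  have hl : LiftOK d π lift := fun q hq => hlift q hq
  have hexg : ∀ t, ∃ x : E, t < d.fus.length → π x = toPerm 5 24 (d.fus.getD t ((0, 0), [])).1 := fun t => by
    by_cases ht : t < d.fus.length
    · have h := hb'.1.1.2 _ (List.getElem_mem ht)
      rw [← List.getD_eq_getElem _ ((0, 0), []) ht] at h
      obtain ⟨x, hx⟩ := exists_over S hc h.1 h.2
      exact ⟨x, fun _ => hx⟩
    · exact ⟨1, fun h => absurd h ht⟩
  choose gl hgl using hexg
  have htail : ∀ q, ∃ t : V, (q < d.rules.length →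
      val lift (d.rules.getD q ([], [])).1 = val lift (d.rules.getD q ([], [])).2 * ι t) ∧
      ∀ p, q = d.rules.length + p → p < d.pairs.length →
        gl (d.pairs.getD p (0, [], [])).1 * val lift (d.pairs.getD p (0, [], [])).2.1 *
          (gl (d.pairs.getD p (0, [], [])).1)⁻¹ = val lift (d.pairs.getD p (0, [], [])).2.2 * ι t := fun q => by
    by_cases hq : q < d.rules.length
    · obtain ⟨t, ht⟩ := rule_tail S hb hl hq
      exact ⟨t, fun _ => ht, fun p h => absurd h (by omega)⟩
    · by_cases hp : q - d.rules.length < d.pairs.length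
      · have htl : (d.pairs.getD (q - d.rules.length) (0, [], [])).1 < d.fus.length := by
          have h := hb'.1.2 _ (List.getElem_mem hp)
          simp only [Nat.blt_eq] at h
          rw [List.getD_eq_getElem _ _ hp]; exact h.1.1.1
        obtain ⟨t, ht⟩ := pair_tail S hb hl hp (hgl _ htl)
        refine ⟨t, fun h => absurd h hq, fun p h _ => ?_⟩
        obtain rfl : p = q - d.rules.length := by omega
        exact ht
      · exact ⟨0, fun h => absurd h hq, fun p h hp' => absurd hp' (by omega)⟩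
  choose T hT using htail
  let τ : ℕ → ZMod 2 := fun k => T (k / dim) ⟨k % dim, Nat.mod_lt _ (by norm_num)⟩
  have hτ : ∀ q, tv τ q = T q := fun q => funext fun i => by
    show T ((q * dim + i) / dim) ⟨(q * dim + i) % dim, _⟩ = T q i
    congr 1
    · rw [Nat.mul_comm, Nat.mul_add_div (by norm_num), Nat.div_eq_of_lt i.2, add_zero]
    · exact Fin.ext (by simp [Nat.mod_eq_of_lt i.2])
  have hr : RuleOK d ι lift (tv τ) := fun q hq => by rw [hτ]; exact (hT q).1 hq
  simp only [eqsOK, Bool.and_eq_true, List.all_eq_true, beq_iff_eq] at he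
  obtain ⟨hrels, heqs⟩ := he
  have hzero : ∀ e ∈ d.eqs, bitv τ e = 0 := by
    intro e hmem
    rw [← heqs] at hmem
    simp only [List.mem_flatMap, List.mem_map, List.mem_range] at hmem
    obtain ⟨R, hR, r, hr', rfl⟩ := hmem
    exact congrFun (rel_zero hb hl S hr hgl
      (fun p hp => by rw [hτ]; exact (hT _).2 p rfl hp) (hrels R hR).1 (hrels R hR).2) ⟨r, hr'⟩
  refine ⟨bitv τ d.lam, fun q => lift q * ι (ev τ (d.delta.getD q 0)), fun q hq => ?_, fun q hq => ?_⟩
  · rw [map_mul, hl q hq, (S.mem_ker _).2 ⟨_, rfl⟩, mul_one]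
  · have hres : ev τ (residual d q) = 0 := funext fun r => by
      have h := allBelow_spec _ _ (allBelow_spec _ _ hk q hq) r r.2
      simp only [Nat.beq_eq] at h
      rw [ev, ← h, bitv_xorTo, Pi.zero_apply]
      refine Finset.sum_eq_zero fun e he' => ?_
      rw [Finset.mem_range] at he'
      cases ((d.combos.getD q []).getD (r : ℕ) 0).testBit e
      · exact bitv_zero τ
      · simp only [cond_true]
        rw [List.getD_eq_getElem _ _ he']
        exact hzero _ (List.getElem_mem he')
    have hz : ev τ (zTerm d q) = bitv τ d.lam • zV d q := funext fun r => by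
      rw [ev, zTerm, bitv_get_block]
      · cases h : (d.z.getD q 0).testBit (r : ℕ)
        · simp only [Pi.smul_apply, zV, h, cond_false, bitv_zero, Bool.false_eq_true, if_false, smul_eq_mul,
            mul_zero]
        · simp only [Pi.smul_apply, zV, h, cond_true, if_true, smul_eq_mul, mul_one]
      · intro j
        cases (d.z.getD q 0).testBit j
        · exact Nat.two_pow_pos wid
        · exact hlam
    rw [residual, ev_xor, ev_xor, ev_xor, ev_varV τ ((Nat.mul_le_mul_right dim (by omega)).trans hw), hz] at hres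
    have hkey : tv τ q + ev τ (dW d (d.rules.getD q ([], [])).1) =
        ev τ (dW d (d.rules.getD q ([], [])).2) + bitv τ d.lam • zV d q := by
      refine two_eq _ _ ?_
      rw [← hres, ← add_assoc]
      rfl
    rw [val_dW S hl _ (hL q hq).1, val_dW S hl _ (hL q hq).2, hr q hq, mul_assoc, ← S.add, hkey, S.add, mul_assoc]

include S hc hb in
/-- Exact rules give a complement. -/
theorem exists_complement [Finite E] (hs : subsOK d = true) (hodd : Odd (certOrder levels / certOrder d.levels))
    {lift : ℕ → E} (hl : LiftOK d π lift) (hr : RuleOK d ι lift (fun _ => 0)) :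
    ∃ H : Subgroup E, Subgroup.IsComplement' π.ker H := by
  classical
  obtain ⟨hcd, hval, hsift, hL, -⟩ := base_facts hb
  simp only [subsOK, Bool.and_eq_true, List.all_eq_true, List.any_eq_true, beq_iff_eq, letters, Nat.blt_eq,
    Bool.or_eq_true, Bool.not_eq_true'] at hs
  obtain ⟨⟨s0, hs0, rfl⟩, hsub⟩ := hs
  set T : Set E := {x | ∃ s ∈ d.subs, x = val lift s} with hT
  set A := Subgroup.closure {x : E | ∃ q < d.a.length, x = lift q} with hA
  have hAT : ∀ x ∈ A, x ∈ T := by
    intro x hx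
    let M : Submonoid E :=
      { carrier := {y | ∀ t ∈ T, t * y ∈ T}
        one_mem' := fun t ht => by rwa [mul_one]
        mul_mem' := fun {a b} ha hb' t ht => by rw [← mul_assoc]; exact hb' _ (ha t ht) }
    have hgen : {x : E | ∃ q < d.a.length, x = lift q} ⊆ (M : Set E) := by
      rintro _ ⟨q, hq, rfl⟩ _ ⟨s, hs', rfl⟩
      obtain ⟨⟨hls, -⟩, hcl⟩ := hsub s hs'
      obtain ⟨s', hs1, he⟩ := List.any_eq_true.1 (allBelow_spec _ _ hcl q hq)
      rw [beq_iff_eq] at he
      refine ⟨s', hs1, ?_⟩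
      rw [he, show lift q = val lift [q] by simp [val], ← val_append]
      exact collW_exact S hl hL hr 10000 _ 0 fun a ha => (List.mem_append.1 ha).elim (hls a)
        fun h => (List.mem_singleton.1 h).symm ▸ hq
    have hx' : x ∈ (Submonoid.closure {x : E | ∃ q < d.a.length, x = lift q} : Set E) := by
      rw [← closure_carrier]; exact hx
    simpa using Submonoid.closure_le.2 hgen hx' 1 ⟨[], hs0, by simp [val]⟩
  set P := genGroup 5 24 d.a
  set U := P.comap π
  have hmap : A.map π = P := by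
    rw [hA, MonoidHom.map_closure]
    refine congrArg Subgroup.closure (Set.ext fun σ => ⟨?_, fun hσ => ?_⟩)
    · rintro ⟨_, ⟨q, hq, rfl⟩, rfl⟩
      refine List.mem_map.2 ⟨_, ?_, (hl q hq).symm⟩
      rw [List.getD_eq_getElem _ _ hq]; exact List.getElem_mem hq
    · obtain ⟨e, he, rfl⟩ := List.mem_map.1 hσ
      obtain ⟨i, hi, rfl⟩ := List.mem_iff_getElem.1 he
      exact ⟨lift i, ⟨i, hi, rfl⟩, by rw [hl i hi, List.getD_eq_getElem _ _ hi]⟩
  have hUle : P ≤ genGroup 5 24 gens := by
    refine (Subgroup.closure_le _).2 ?_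
    intro σ hσ
    obtain ⟨e, he, rfl⟩ := List.mem_map.1 hσ
    exact cert_mem hc (hval e he) (hsift e he)
  have hidx : U.index = certOrder levels / certOrder d.levels := by
    rw [Subgroup.index_comap, S.range_eq, ← cert_card hc, ← cert_card hcd]
    have h := Subgroup.card_mul_index (P.subgroupOf (genGroup 5 24 gens))
    rw [Nat.card_congr (Subgroup.subgroupOfEquivOfLe hUle).toEquiv] at h
    rw [← h, Nat.mul_div_cancel_left _ Nat.card_pos]
    rfl
  haveI : IsMulCommutative π.ker := ⟨⟨fun a b => Subtype.ext (by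
    obtain ⟨u, hu⟩ := (S.mem_ker _).1 a.2
    obtain ⟨v, hv⟩ := (S.mem_ker _).1 b.2
    show (a : E) * b = b * a
    rw [← hu, ← hv, ← S.add, add_comm, S.add])⟩⟩
  have hcard : Nat.card π.ker = 2 ^ dim := by
    have e : V ≃ π.ker := Equiv.ofBijective (fun v => ⟨ι v, (S.mem_ker _).2 ⟨v, rfl⟩⟩)
      ⟨fun u v h => S.inj (congrArg Subtype.val h), fun x => by
        obtain ⟨v, hv⟩ := (S.mem_ker _).1 x.2
        exact ⟨v, Subtype.ext hv⟩⟩
    rw [← Nat.card_congr e, Nat.card_fun, Nat.card_zmod, Nat.card_fin]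
  refine SolvGaschutz.existence (U := U) (fun x hx => ?_) ?_ (A := A) (fun x hx => ?_) ?_ ?_
  · show π x ∈ P
    rw [MonoidHom.mem_ker.1 hx]; exact one_mem P
  · rw [hcard, hidx]
    exact Nat.Coprime.pow_left _ (Nat.coprime_two_left.2 hodd)
  · show π x ∈ P
    rw [← hmap]; exact ⟨x, hx, rfl⟩
  · rw [eq_bot_iff]
    rintro x ⟨hxA, hxK⟩
    obtain ⟨s, hs', rfl⟩ := hAT x hxA
    obtain ⟨⟨hls, h⟩, -⟩ := hsub s hs'
    rcases h with rfl | h
    · simp [val]
    · exfalso
      have h2 := (sameC_eq (B := []) (y := (1 : Equiv.Perm (Fin 24))) (perm_val hl hval _ hls)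
        (by simp [appC])).2 (MonoidHom.mem_ker.1 hxK)
      rw [h] at h2
      exact Bool.noConfusion h2
  · refine le_antisymm (sup_le (fun x hx => ?_) fun x hx => ?_) fun x hx => ?_
    · show π x ∈ P
      rw [MonoidHom.mem_ker.1 hx]; exact one_mem P
    · show π x ∈ P
      rw [← hmap]; exact ⟨x, hx, rfl⟩
    · obtain ⟨a, ha, he⟩ := (hmap ▸ (hx : π x ∈ P) : π x ∈ A.map π)
      rw [← inv_mul_cancel_right x a]
      exact Subgroup.mul_mem_sup (show x * a⁻¹ ∈ π.ker by
        rw [MonoidHom.mem_ker, map_mul, map_inv, he, mul_inv_cancel]) ha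

end Cfsg.Agent.ExtM23
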